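import Groth.Agent.An92.Conn.Domain
import Groth.Agent.An92.Dense
import Mathlib.AlgebraicGeometry.ResidueField

/-!
Connectedness of complex points: the points over an irreducible closed set are preconnected, and
clopen sets of complex points come from clopen sets of the scheme.
-/

set_option autoImplicit false

noncomputable section

open AlgebraicGeometry CategoryTheory TopologicalSpace Topology Filter

namespace Groth.Agent.An92

open An An.Pts

variable {X : Scheme.{0}} [X.Over SC] [LocallyOfFiniteType (X ↘ SC)]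

theorem isPreconnected_pts_closure_of_isAffine [IsAffine X] (η : X) :
    IsPreconnected {x : Pts X | x.pt ∈ closure ({η} : Set X)} := by
  obtain ⟨m, s, hs⟩ := exists_generators (X := X)
  let e : Γ(X, ⊤) →+* X.residueField η := (X.evaluation ⊤ η (Opens.mem_top _)).hom
  have he : ∀ b, e b = 0 ↔ η ∉ X.basicOpen b := fun b =>
    Scheme.evaluation_eq_zero_iff_notMem_basicOpen X η (Opens.mem_top _) b
  have : (RingHom.ker e).IsPrime := RingHom.ker_isPrime e
  let A := Γ(X, ⊤) ⧸ RingHom.ker e
  let π : Γ(X, ⊤) →+* A := Ideal.Quotient.mk _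
  letI : Algebra ℂ A := (π.comp (strHom X)).toAlgebra
  have haeval : ∀ P, MvPolynomial.aeval (fun j => π (s j)) P = π (MvPolynomial.eval₂Hom (strHom X) s P) := by
    intro P
    exact RingHom.congr_fun (show (MvPolynomial.aeval fun j => π (s j)).toRingHom =
      π.comp (MvPolynomial.eval₂Hom (strHom X) s) from MvPolynomial.ringHom_ext
        (fun c => by simp; rfl) (fun j => by simp)) P
  have hsA : Function.Surjective (MvPolynomial.aeval (fun j => π (s j)) : MvPolynomial (Fin m) ℂ →ₐ[ℂ] A) := by
    intro a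
    obtain ⟨b, rfl⟩ := Ideal.Quotient.mk_surjective a
    obtain ⟨P, rfl⟩ := hs b
    exact ⟨P, haeval P⟩
  have hmem : ∀ x : Pts X, x.pt ∈ closure ({η} : Set X) ↔ ∀ b, e b = 0 → x.evTop b = 0 := by
    intro x
    constructor
    · intro hx b hb
      by_contra hb'
      exact (he b).1 hb ((specializes_iff_mem_closure.2 hx).mem_open (X.basicOpen b).2
        ((mem_basicOpen_iff x ⊤ (Opens.mem_top _) b).2 hb'))
    · intro h
      refine mem_closure_iff.2 fun O hO hxO => ?_
      obtain ⟨b, hbO, hxb⟩ := (isAffineOpen_top X).exists_basicOpen_le (V := (⟨O, hO⟩ : X.Opens))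
        ⟨x.pt, hxO⟩ (Opens.mem_top _)
      have hb : η ∈ X.basicOpen b := by
        by_contra hη
        exact (mem_basicOpen_iff x ⊤ (Opens.mem_top _) b).1 hxb (h b ((he b).2 hη))
      exact ⟨η, hbO hb, rfl⟩
  rw [← (isEmbedding_evTop_of_generators s hs).isInducing.isPreconnected_image]
  convert isPreconnected_range_algHom (fun j => π (s j)) hsA using 1
  ext z
  constructor
  · rintro ⟨x, hx, rfl⟩
    let φ : A →ₐ[ℂ] ℂ :=
      { Ideal.Quotient.lift (RingHom.ker e) (evHom x ⊤ (Opens.mem_top _))
          (fun b hb => (hmem x).1 hx b hb) with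
        commutes' := fun c => evTop_strHom x c }
    exact ⟨φ, rfl⟩
  · rintro ⟨φ, rfl⟩
    have hφ : ∀ P, φ (π (MvPolynomial.eval₂Hom (strHom X) s P)) =
        MvPolynomial.eval (fun j => φ (π (s j))) P := fun P => by
      rw [← haeval, apply_eq_eval]
    obtain ⟨x, hx⟩ : (fun j => φ (π (s j))) ∈ Set.range (fun (x : Pts X) j => x.evTop (s j)) := by
      rw [range_evTop_of_generators s hs]
      intro P hP
      rw [← hφ, hP, map_zero, map_zero]
    refine ⟨x, (hmem x).2 fun b hb => ?_, hx⟩
    obtain ⟨P, rfl⟩ := hs b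
    rw [evTop_eval₂Hom, show (fun i => x.evTop (s i)) = fun j => φ (π (s j)) from hx, ← hφ,
      show π (MvPolynomial.eval₂Hom (strHom X) s P) = 0 from Ideal.Quotient.eq_zero_iff_mem.2 hb, map_zero]

omit [X.Over SC] [LocallyOfFiniteType (X ↘ SC)] in
theorem mem_closure_opensι {U : X.Opens} {a b : (U : Scheme.{0})} :
    a ∈ closure ({b} : Set (U : Scheme.{0})) ↔ U.ι a ∈ closure ({U.ι b} : Set X) := by
  rw [← Set.image_singleton, U.ι.isOpenEmbedding.isInducing.closure_eq_preimage_closure_image]
  exact Iff.rfl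

theorem isPreconnected_pts_closure (η : X) :
    IsPreconnected {x : Pts X | x.pt ∈ closure ({η} : Set X)} := by
  have hpiece : ∀ U : X.Opens, IsAffineOpen U → η ∈ U →
      IsPreconnected {x : Pts X | x.pt ∈ closure ({η} : Set X) ∧ x.pt ∈ U} := by
    intro U hU hη
    have : IsAffine (U : Scheme.{0}) := hU
    have h := (isPreconnected_pts_closure_of_isAffine (X := (U : Scheme.{0})) ⟨η, hη⟩).image (Pts.map U.ι)
      (Pts.continuous_map _).continuousOn
    convert h using 1
    ext x
    constructor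
    · rintro ⟨hx, hxU⟩
      obtain ⟨y, rfl⟩ := (range_map_opensι U).ge hxU
      exact ⟨y, mem_closure_opensι.2 (by rw [← Pts.pt_map]; exact hx), rfl⟩
    · rintro ⟨y, hy, rfl⟩
      rw [Set.mem_ofPred_eq, Pts.pt_map]
      exact ⟨mem_closure_opensι.1 hy, y.pt.2⟩
  rcases Set.eq_empty_or_nonempty {x : Pts X | x.pt ∈ closure ({η} : Set X)} with h | ⟨x₀, hx₀⟩
  · rw [h]; exact isPreconnected_empty
  obtain ⟨U₀, hU₀, hxU₀, -⟩ := exists_isAffineOpen_mem_and_subset (U := ⊤) (Opens.mem_top x₀.pt)
  have hη₀ : η ∈ U₀ := (specializes_iff_mem_closure.2 hx₀).mem_open U₀.2 hxU₀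
  refine isPreconnected_of_forall x₀ fun y hy => ?_
  obtain ⟨U, hU, hyU, -⟩ := exists_isAffineOpen_mem_and_subset (U := ⊤) (Opens.mem_top y.pt)
  have hη : η ∈ U := (specializes_iff_mem_closure.2 hy).mem_open U.2 hyU
  obtain ⟨w, hw⟩ := exists_pt_mem (S := closure ({η} : Set X) ∩ ((U₀ : Set X) ∩ U))
    (isClosed_closure.isLocallyClosed.inter (U₀.2.inter U.2).isLocallyClosed)
    ⟨η, subset_closure rfl, hη₀, hη⟩
  refine ⟨{x : Pts X | x.pt ∈ closure ({η} : Set X) ∧ x.pt ∈ U₀} ∪ {x : Pts X | x.pt ∈ closure ({η} : Set X) ∧ x.pt ∈ U},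
    Set.union_subset (fun _ h => h.1) (fun _ h => h.1), Or.inl ⟨hx₀, hxU₀⟩, Or.inr ⟨hy, hyU⟩,
    IsPreconnected.union w ⟨hw.1, hw.2.1⟩ ⟨hw.1, hw.2.2⟩ (hpiece U₀ hU₀ hη₀) (hpiece U hU hη)⟩

omit [X.Over SC] [LocallyOfFiniteType (X ↘ SC)] in
/-- A set stable under specialisation and generalisation is closed, on a locally Noetherian scheme. -/
theorem isClosed_of_specializes [IsLocallyNoetherian X] {S : Set X}
    (h : ∀ a b : X, a ⤳ b → (a ∈ S ↔ b ∈ S)) : IsClosed S := by
  rw [← isOpen_compl_iff, isOpen_iff_forall_mem_open]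
  intro p hp
  obtain ⟨U, hU, hpU, -⟩ := exists_isAffineOpen_mem_and_subset (U := ⊤) (Opens.mem_top p)
  have : IsAffine (U : Scheme.{0}) := hU
  have : IsNoetherian (U : Scheme.{0}) := {}
  let T : Set (U : Scheme.{0}) := U.ι ⁻¹' S
  have hfin := NoetherianSpace.finite_irreducibleComponents (α := (U : Scheme.{0}))
  have hT : T = ⋃ Z ∈ {Z ∈ irreducibleComponents (U : Scheme.{0}) | (Z ∩ T).Nonempty}, Z := by
    refine subset_antisymm (fun a ha => ?_) ?_
    · exact Set.mem_iUnion₂.2 ⟨irreducibleComponent a,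
        ⟨irreducibleComponent_mem_irreducibleComponents a, a, mem_irreducibleComponent, ha⟩,
        mem_irreducibleComponent⟩
    · refine Set.iUnion₂_subset ?_
      rintro Z ⟨hZ, b, hbZ, hbT⟩ a ha
      have hgen : closure ({hZ.1.genericPoint} : Set (U : Scheme.{0})) = Z :=
        hZ.1.closure_genericPoint (isClosed_of_mem_irreducibleComponents Z hZ)
      have hspec : ∀ c ∈ Z, U.ι hZ.1.genericPoint ⤳ U.ι c := fun c hc =>
        (specializes_iff_mem_closure.2 (hgen.symm ▸ hc)).map U.ι.continuous
      exact (h _ _ (hspec a ha)).1 ((h _ _ (hspec b hbZ)).2 hbT)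
  have hclosed : IsClosed T := by
    rw [hT]
    exact (hfin.subset fun Z hZ => hZ.1).isClosed_biUnion fun Z hZ =>
      isClosed_of_mem_irreducibleComponents Z hZ.1
  refine ⟨U.ι '' Tᶜ, ?_, U.ι.isOpenEmbedding.isOpenMap _ hclosed.isOpen_compl, ⟨⟨p, hpU⟩, hp, rfl⟩⟩
  rintro _ ⟨a, ha, rfl⟩
  exact ha

omit [X.Over SC] [LocallyOfFiniteType (X ↘ SC)] in
theorem isClopen_of_specializes [IsLocallyNoetherian X] {S : Set X}
    (h : ∀ a b : X, a ⤳ b → (a ∈ S ↔ b ∈ S)) : IsClopen S :=
  ⟨isClosed_of_specializes h, isClosed_compl_iff.1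
    (isClosed_of_specializes (S := Sᶜ) fun a b hab => not_congr (h a b hab))⟩

/-- Clopen sets of complex points come from clopen sets of the scheme. -/
theorem exists_isClopen_preimage_pt {C : Set (Pts X)} (hC : IsClopen C) :
    ∃ S : Set X, IsClopen S ∧ Pts.pt ⁻¹' S = C := by
  have := isLocallyNoetherian X
  have hne : ∀ p : X, ∃ x : Pts X, x.pt ∈ closure ({p} : Set X) := fun p =>
    exists_pt_mem isClosed_closure.isLocallyClosed ⟨p, subset_closure rfl⟩
  have key : ∀ (p : X) (x y : Pts X), x.pt ∈ closure ({p} : Set X) → y.pt ∈ closure ({p} : Set X) →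
      x ∈ C → y ∈ C := fun p x y hx hy hxC =>
    (isPreconnected_pts_closure p).subset_isClopen hC ⟨x, hx, hxC⟩ hy
  refine ⟨{p | ∀ x : Pts X, x.pt ∈ closure ({p} : Set X) → x ∈ C}, isClopen_of_specializes ?_, ?_⟩
  · intro a b hab
    have hsub : closure ({b} : Set X) ⊆ closure ({a} : Set X) :=
      specializes_iff_closure_subset.1 hab
    refine ⟨fun ha x hx => ha x (hsub hx), fun hb x hx => ?_⟩
    obtain ⟨y, hy⟩ := hne b
    exact key a y x (hsub hy) hx (hb y hy)
  · ext x
    refine ⟨fun h => h x (subset_closure rfl), fun hxC y hy => ?_⟩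
    exact key x.pt x y (subset_closure rfl) hy hxC

theorem isPreconnected_preimage_pt {Z : Set X} (hZ : _root_.IsPreconnected Z) (hZc : IsClopen Z) :
    IsPreconnected (Pts.pt ⁻¹' Z) := by
  rw [isPreconnected_iff_preconnectedSpace, preconnectedSpace_iff_clopen]
  intro C hC
  have hC' : IsClopen (Subtype.val '' C) :=
    ⟨(hZc.1.preimage Pts.continuous_pt).isClosedEmbedding_subtypeVal.isClosedMap _ hC.1,
      (hZc.2.preimage Pts.continuous_pt).isOpenEmbedding_subtypeVal.isOpenMap _ hC.2⟩
  obtain ⟨S, hS, hSC⟩ := exists_isClopen_preimage_pt hC'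
  rcases Set.eq_empty_or_nonempty (Z ∩ S) with h | h
  · refine Or.inl (Set.eq_empty_iff_forall_notMem.2 fun x hx => ?_)
    exact Set.eq_empty_iff_forall_notMem.1 h x.1.pt ⟨x.2, hSC.ge ⟨x, hx, rfl⟩⟩
  · refine Or.inr (Set.eq_univ_of_forall fun x => ?_)
    obtain ⟨x', hx', he⟩ := hSC.le (show x.1 ∈ Pts.pt ⁻¹' S from hZ.subset_isClopen hS h x.2)
    exact Subtype.val_injective he ▸ hx'

theorem connectedSpace_iff_pts : ConnectedSpace X ↔ ConnectedSpace (Pts X) := by
  constructor
  · intro h
    have h1 := isPreconnected_preimage_pt (X := X) isPreconnected_univ isClopen_univ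
    rw [Set.preimage_univ] at h1
    have : PreconnectedSpace (Pts X) := ⟨h1⟩
    exact { toNonempty := isEmpty_iff_pts.1 h.toNonempty }
  · intro h
    have : Nonempty X := isEmpty_iff_pts.2 h.toNonempty
    have : PreconnectedSpace X := by
      rw [preconnectedSpace_iff_clopen]
      intro S hS
      rcases isClopen_iff.1 (hS.preimage (Pts.continuous_pt (X := X))) with h1 | h1
      · refine Or.inl (Set.eq_empty_iff_forall_notMem.2 fun p hp => ?_)
        obtain ⟨x, hx⟩ := exists_pt_mem hS.2.isLocallyClosed ⟨p, hp⟩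
        exact Set.eq_empty_iff_forall_notMem.1 h1 x hx
      · refine Or.inr (Set.eq_univ_of_forall fun p => by_contra fun hp => ?_)
        obtain ⟨x, hx⟩ := exists_pt_mem hS.compl.2.isLocallyClosed ⟨p, hp⟩
        exact hx (h1.ge trivial)
    exact { toNonempty := inferInstance }

theorem connectedComponentsMap_pt_bijective :
    Function.Bijective (Pts.continuous_pt (X := X)).connectedComponentsMap := by
  have := isLocallyNoetherian X
  have hspec : ∀ (p a b : X), a ⤳ b → (a ∈ connectedComponent p ↔ b ∈ connectedComponent p) := by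
    intro p a b hab
    have hsub : closure ({a} : Set X) ⊆ connectedComponent a :=
      isPreconnected_singleton.closure.subset_connectedComponent (subset_closure rfl)
    have he := connectedComponent_eq (hsub (specializes_iff_mem_closure.1 hab))
    constructor
    · intro ha
      rw [connectedComponent_eq ha, he]
      exact mem_connectedComponent
    · intro hb
      rw [connectedComponent_eq hb, ← he]
      exact mem_connectedComponent
  constructor
  · intro a b hab
    obtain ⟨x, rfl⟩ := ConnectedComponents.surjective_coe a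
    obtain ⟨y, rfl⟩ := ConnectedComponents.surjective_coe b
    have h : connectedComponent x.pt = connectedComponent y.pt := ConnectedComponents.coe_eq_coe.1 hab
    refine ConnectedComponents.coe_eq_coe'.2 ?_
    exact (isPreconnected_preimage_pt isPreconnected_connectedComponent
      (isClopen_of_specializes (hspec y.pt))).subset_connectedComponent
        (show y.pt ∈ connectedComponent y.pt from mem_connectedComponent)
        (show x.pt ∈ connectedComponent y.pt from h ▸ mem_connectedComponent)
  · intro c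
    obtain ⟨p, rfl⟩ := ConnectedComponents.surjective_coe c
    obtain ⟨x, hx⟩ := exists_pt_mem isClosed_connectedComponent.isLocallyClosed
      ⟨p, mem_connectedComponent⟩
    exact ⟨(x : ConnectedComponents (Pts X)), ConnectedComponents.coe_eq_coe'.2 hx⟩

end Groth.Agent.An92
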