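import Mathlib.Analysis.Complex.Basic
import Mathlib.Algebra.MvPolynomial.Funext
import Mathlib.LinearAlgebra.Lagrange
import Mathlib.Algebra.MvPolynomial.Rename
import Mathlib.Algebra.Polynomial.AlgebraMap
import Mathlib.Topology.MetricSpace.Perfect

/-!
Polynomials on complex affine space: restriction to lines, and functions which are polynomial of
bounded degree in each variable.
-/

set_option autoImplicit false

noncomputable section

open Filter Topology Polynomial

namespace Groth.Agent.An92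

/-- The restriction of a polynomial to the line `s ↦ z + s • v`. -/
def lineRestrict {n : ℕ} (z v : Fin n → ℂ) : MvPolynomial (Fin n) ℂ →ₐ[ℂ] ℂ[X] :=
  MvPolynomial.aeval fun i => Polynomial.C (z i) + Polynomial.C (v i) * Polynomial.X

theorem eval_lineRestrict {n : ℕ} (z v : Fin n → ℂ) (f : MvPolynomial (Fin n) ℂ) (s : ℂ) :
    (lineRestrict z v f).eval s = MvPolynomial.eval (fun i => z i + s * v i) f := by
  induction f using MvPolynomial.induction_on with
  | C a => simp [lineRestrict]
  | add f g hf hg => simp [hf, hg]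
  | mul_X f i hf => simp [lineRestrict, hf, mul_comm s] at hf ⊢; left; trivial

/-- Polynomials grow polynomially on lines, uniformly in the exponent. -/
theorem exists_bound_line {n : ℕ} (f : MvPolynomial (Fin n) ℂ) :
    ∃ m : ℕ, ∀ z v : Fin n → ℂ, ∃ C : ℝ, 0 ≤ C ∧
      ∀ s : ℂ, ‖MvPolynomial.eval (fun i => z i + s * v i) f‖ ≤ C * (1 + ‖s‖) ^ m := by
  induction f using MvPolynomial.induction_on with
  | C a => exact ⟨0, fun _ _ => ⟨‖a‖, norm_nonneg _, fun s => by simp⟩⟩
  | add f g hf hg =>
    obtain ⟨m, hm⟩ := hf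
    obtain ⟨m', hm'⟩ := hg
    refine ⟨max m m', fun z v => ?_⟩
    obtain ⟨C, hC0, hC⟩ := hm z v
    obtain ⟨C', hC0', hC'⟩ := hm' z v
    refine ⟨C + C', add_nonneg hC0 hC0', fun s => ?_⟩
    have h1 : (1 : ℝ) ≤ 1 + ‖s‖ := le_add_of_nonneg_right (norm_nonneg s)
    rw [map_add, add_mul]
    exact (norm_add_le _ _).trans (add_le_add
      ((hC s).trans (mul_le_mul_of_nonneg_left (pow_le_pow_right₀ h1 (le_max_left _ _)) hC0))
      ((hC' s).trans (mul_le_mul_of_nonneg_left (pow_le_pow_right₀ h1 (le_max_right _ _)) hC0')))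
  | mul_X f i hf =>
    obtain ⟨m, hm⟩ := hf
    refine ⟨m + 1, fun z v => ?_⟩
    obtain ⟨C, hC0, hC⟩ := hm z v
    refine ⟨C * (‖z i‖ + ‖v i‖), by positivity, fun s => ?_⟩
    rw [map_mul, MvPolynomial.eval_X, norm_mul]
    have h2 : ‖z i + s * v i‖ ≤ (‖z i‖ + ‖v i‖) * (1 + ‖s‖) := by
      refine (norm_add_le _ _).trans ?_
      rw [norm_mul]
      nlinarith [norm_nonneg (z i), norm_nonneg (v i), norm_nonneg s]
    calc ‖MvPolynomial.eval (fun i => z i + s * v i) f‖ * ‖z i + s * v i‖
        ≤ (C * (1 + ‖s‖) ^ m) * ((‖z i‖ + ‖v i‖) * (1 + ‖s‖)) :=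
          mul_le_mul (hC s) h2 (norm_nonneg _) (by positivity)
      _ = _ := by ring

/-- A function on a box which is a polynomial of bounded degree in each variable is a polynomial. -/
theorem exists_mvPolynomial_of_separately (N : ℕ) :
    ∀ {n : ℕ} (B : Fin n → Set ℂ), (∀ i, (B i).Infinite) → ∀ g : (Fin n → ℂ) → ℂ,
      (∀ x : Fin n → ℂ, (∀ i, x i ∈ B i) → ∀ i, ∃ p : ℂ[X], p.natDegree ≤ N ∧
        ∀ s ∈ B i, g (Function.update x i s) = p.eval s) →
      ∃ G : MvPolynomial (Fin n) ℂ, ∀ x : Fin n → ℂ, (∀ i, x i ∈ B i) → g x = MvPolynomial.eval x G := by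
  classical
  intro n
  induction n with
  | zero =>
    intro B _ g _
    exact ⟨MvPolynomial.C (g 0), fun x _ => by rw [MvPolynomial.eval_C, Subsingleton.elim x 0]⟩
  | succ n ih =>
    intro B hB g hg
    obtain ⟨A, hA, hAc⟩ := (hB 0).exists_subset_card_eq (N + 1)
    have hslice : ∀ a : A, ∃ G : MvPolynomial (Fin n) ℂ, ∀ y : Fin n → ℂ, (∀ i, y i ∈ B i.succ) →
        g (Fin.cons a.1 y) = MvPolynomial.eval y G := fun a => by
      refine ih (fun i => B i.succ) (fun i => hB i.succ) (fun y => g (Fin.cons a.1 y)) fun y hy i => ?_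
      obtain ⟨p, hp, hpe⟩ := hg (Fin.cons a.1 y) (Fin.cases (hA a.2) hy) i.succ
      refine ⟨p, hp, fun s hs => ?_⟩
      simp only [Fin.cons_update]
      exact hpe s hs
    choose G hG using hslice
    refine ⟨∑ a : A, Polynomial.aeval (MvPolynomial.X 0) (Lagrange.basis A id a.1) *
      MvPolynomial.rename Fin.succ (G a), fun x hx => ?_⟩
    obtain ⟨p, hp, hpe⟩ := hg x hx 0
    have hinj : Set.InjOn (id : ℂ → ℂ) A := fun _ _ _ _ h => h
    have hdeg : p.degree < A.card := by
      rw [hAc]
      exact lt_of_le_of_lt (degree_le_natDegree.trans (Nat.cast_le.2 hp)) (Nat.cast_lt.2 N.lt_succ_self)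
    have hint := Lagrange.eq_interpolate hinj hdeg
    have h1 : g x = p.eval (x 0) := by rw [← hpe _ (hx 0), Function.update_eq_self]
    have h2 : ∀ a : A, MvPolynomial.eval (fun i : Fin n => x i.succ) (G a) = p.eval a.1 := fun a => by
      rw [← hG a _ fun i => hx i.succ, ← hpe _ (hA a.2)]
      congr 1
      funext i
      refine Fin.cases ?_ (fun j => ?_) i
      · simp
      · simp [Function.update_of_ne (Fin.succ_ne_zero j)]
    rw [h1, map_sum]
    conv_lhs => rw [hint, Lagrange.interpolate_apply, eval_finsetSum, ← Finset.sum_attach]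
    refine Finset.sum_congr rfl fun a _ => ?_
    rw [map_mul, MvPolynomial.eval_rename]
    show _ = _ * MvPolynomial.eval (fun i : Fin n => x i.succ) (G a)
    rw [h2, eval_mul, eval_C, id_eq, mul_comm (p.eval a.1)]
    congr 1
    induction (Lagrange.basis A id a.1) using Polynomial.induction_on' with
    | add u w hu hw => simp [hu, hw]
    | monomial k c => simp

end Groth.Agent.An92
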