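import Mathlib.Analysis.Complex.Liouville
import Mathlib.Analysis.Complex.RemovableSingularity
import Mathlib.Analysis.Normed.Module.Connected
import Mathlib.LinearAlgebra.Complex.FiniteDimensional
import Mathlib.Algebra.Polynomial.Eval.Degree
import Mathlib.Analysis.Calculus.Deriv.Polynomial

/-!
One complex variable: entire functions of polynomial growth, removable finite sets, differentiability
of continuous simple roots.
-/

set_option autoImplicit false

noncomputable section

open Filter Topology Polynomial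

namespace Groth.Agent.An92

/-- An entire function of polynomial growth is a polynomial. -/
theorem exists_polynomial_of_growth (N : ℕ) :
    ∀ (g : ℂ → ℂ) (C : ℝ), Differentiable ℂ g → (∀ s, ‖g s‖ ≤ C * (1 + ‖s‖) ^ N) →
      ∃ p : ℂ[X], p.natDegree ≤ N ∧ ∀ s, g s = p.eval s := by
  induction N with
  | zero =>
    intro g C hg hb
    refine ⟨Polynomial.C (g 0), by simp, fun s => ?_⟩
    rw [eval_C]
    refine hg.apply_eq_apply_of_bounded ?_ s 0
    refine (isBounded_iff_forall_norm_le).2 ⟨C, ?_⟩
    rintro _ ⟨t, rfl⟩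
    simpa using hb t
  | succ N ih =>
    intro g C hg hb
    have hd : Differentiable ℂ (dslope g 0) :=
      differentiableOn_univ.1 ((Complex.differentiableOn_dslope univ_mem).2 hg.differentiableOn)
    obtain ⟨C', hC'⟩ := (isCompact_closedBall (0 : ℂ) 1).exists_bound_of_continuousOn
      hd.continuous.continuousOn
    have hC : 0 ≤ C := by
      have := (norm_nonneg _).trans (hb 0)
      simpa using this
    obtain ⟨p, hp, hpe⟩ := ih (dslope g 0) (|C'| + 4 * C) hd fun s => by
      have hpow : (1 : ℝ) ≤ (1 + ‖s‖) ^ N := one_le_pow₀ (le_add_of_nonneg_right (norm_nonneg s))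
      rcases le_or_gt ‖s‖ 1 with hs | hs
      · calc ‖dslope g 0 s‖ ≤ |C'| := (hC' s (by simpa using hs)).trans (le_abs_self _)
          _ ≤ |C'| + 4 * C := by linarith
          _ ≤ (|C'| + 4 * C) * (1 + ‖s‖) ^ N :=
            le_mul_of_one_le_right (by positivity) hpow
      · have hs0 : s ≠ 0 := fun h => by simp [h] at hs; linarith
        have h0 : ‖g 0‖ ≤ C := by simpa using hb 0
        have h1 : ‖g s - g 0‖ ≤ 2 * C * (1 + ‖s‖) ^ (N + 1) := by
          refine (norm_sub_le _ _).trans ?_
          have : C * 1 ≤ C * (1 + ‖s‖) ^ (N + 1) :=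
            mul_le_mul_of_nonneg_left (one_le_pow₀ (le_add_of_nonneg_right (norm_nonneg s))) hC
          have := hb s
          linarith
        have h2 : s * dslope g 0 s = g s - g 0 := by
          have := sub_smul_dslope g 0 s
          simpa using this
        have h3 : ‖s‖ * ‖dslope g 0 s‖ ≤ 2 * C * (1 + ‖s‖) ^ (N + 1) := by
          rw [← norm_mul, h2]; exact h1
        have h4 : 2 * C * (1 + ‖s‖) ^ (N + 1) ≤ ‖s‖ * (4 * C * (1 + ‖s‖) ^ N) := by
          have h5 : 0 ≤ C * (1 + ‖s‖) ^ N := by positivity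
          rw [pow_succ]
          nlinarith [mul_le_mul_of_nonneg_left (show 1 + ‖s‖ ≤ 2 * ‖s‖ by linarith) h5]
        refine ((le_of_mul_le_mul_left (h3.trans h4) (norm_pos_iff.2 hs0))).trans ?_
        exact mul_le_mul_of_nonneg_right (le_add_of_nonneg_left (abs_nonneg _)) (by positivity)
    refine ⟨Polynomial.C (g 0) + X * p, ?_, fun s => ?_⟩
    · refine (natDegree_add_le _ _).trans (max_le (by simp) ?_)
      exact natDegree_mul_le.trans (by rw [natDegree_X]; omega)
    · have := sub_smul_dslope g 0 s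
      rw [hpe] at this
      simp at this ⊢
      linear_combination -this

/-- A function holomorphic off a finite set and of polynomial growth there is a polynomial there. -/
theorem exists_polynomial_of_growth_off_finite {S : Set ℂ} (hS : S.Finite) (g : ℂ → ℂ) (C : ℝ) (N : ℕ)
    (hg : ∀ s ∉ S, DifferentiableAt ℂ g s) (hb : ∀ s ∉ S, ‖g s‖ ≤ C * (1 + ‖s‖) ^ N) :
    ∃ p : ℂ[X], p.natDegree ≤ N ∧ ∀ s ∉ S, g s = p.eval s := by
  classical
  let G : ℂ → ℂ := fun s => if s ∈ S then limUnder (𝓝[≠] s) g else g s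
  have hGeq : ∀ s ∉ S, G =ᶠ[𝓝 s] g := fun s hs => by
    filter_upwards [hS.isClosed.isOpen_compl.mem_nhds hs] with t ht
    exact if_neg ht
  have hG : Differentiable ℂ G := by
    intro s
    by_cases hs : s ∈ S
    · let T : Set ℂ := (S \ {s})ᶜ ∩ Metric.ball s 1
      have hT : T ∈ 𝓝 s := Filter.inter_mem
        ((hS.sdiff).isClosed.isOpen_compl.mem_nhds fun h => h.2 rfl) (Metric.ball_mem_nhds s one_pos)
      have hTS : ∀ t ∈ T \ {s}, t ∉ S := fun t ht h => ht.1.1 ⟨h, ht.2⟩
      have h1 : DifferentiableOn ℂ (Function.update g s (limUnder (𝓝[≠] s) g)) T := by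
        refine Complex.differentiableOn_update_limUnder_of_bddAbove hT
          (fun t ht => (hg t (hTS t ht)).differentiableWithinAt) ?_
        refine ⟨|C| * (2 + ‖s‖) ^ N, ?_⟩
        rintro _ ⟨t, ht, rfl⟩
        refine (hb t (hTS t ht)).trans ((mul_le_mul_of_nonneg_right (le_abs_self C) (by positivity)).trans
          (mul_le_mul_of_nonneg_left (pow_le_pow_left₀ (by positivity) ?_ N) (abs_nonneg C)))
        have := norm_le_norm_add_norm_sub' t s
        have h3 := mem_ball_iff_norm.1 ht.1.2
        rw [norm_sub_rev] at this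
        linarith [norm_sub_rev t s]
      refine (h1.differentiableAt hT).congr_of_eventuallyEq ?_
      filter_upwards [hT] with t ht
      by_cases h : t = s
      · subst h; simp [G, hs]
      · rw [Function.update_of_ne h]
        exact if_neg (hTS t ⟨ht, h⟩)
    · exact (hg s hs).congr_of_eventuallyEq (hGeq s hs)
  have hGb : ∀ s, ‖G s‖ ≤ C * (1 + ‖s‖) ^ N := by
    have hd : Dense Sᶜ := hS.countable.dense_compl ℝ
    intro s
    have : IsClosed {t | ‖G t‖ ≤ C * (1 + ‖t‖) ^ N} :=
      isClosed_le hG.continuous.norm (by fun_prop)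
    exact this.closure_subset_iff.2 (fun t ht => by
      show ‖G t‖ ≤ _
      rw [show G t = g t from if_neg ht]
      exact hb t ht) (hd s)
  obtain ⟨p, hp, hpe⟩ := exists_polynomial_of_growth N G C hG hGb
  exact ⟨p, hp, fun s hs => (if_neg hs).symm.trans (hpe s)⟩

/-- A continuous simple root of a polynomial with differentiable coefficients is differentiable. -/
theorem differentiableAt_root {d : ℕ} {c : ℕ → ℂ → ℂ} {r : ℂ → ℂ} {s₀ : ℂ}
    (hc : ∀ k, DifferentiableAt ℂ (c k) s₀) (hr : ContinuousAt r s₀)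
    (hroot : ∀ᶠ s in 𝓝 s₀, ∑ k ∈ Finset.range d, c k s * r s ^ k = 0)
    (hsimple : ∑ k ∈ Finset.range d, c k s₀ * (k * r s₀ ^ (k - 1)) ≠ 0) :
    DifferentiableAt ℂ r s₀ := by
  set t₀ := r s₀
  let B : ℂ → ℂ := fun s => ∑ k ∈ Finset.range d, c k s * ∑ i ∈ Finset.range k, r s ^ i * t₀ ^ (k - 1 - i)
  let q : ℂ → ℂ := fun s => ∑ k ∈ Finset.range d, c k s * t₀ ^ k
  have hq : DifferentiableAt ℂ q s₀ :=
    DifferentiableAt.fun_sum fun k _ => (hc k).mul_const _
  have hq0 : q s₀ = 0 := hroot.self_of_nhds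
  have hBc : ContinuousAt B s₀ :=
    tendsto_finsetSum _ fun k _ => ((hc k).continuousAt).mul
      (tendsto_finsetSum _ fun i _ => (hr.pow i).mul continuousAt_const)
  have hB0 : B s₀ ≠ 0 := by
    refine ne_of_eq_of_ne (Finset.sum_congr rfl fun k _ => ?_) hsimple
    rw [geom_sum₂_self]
  have key : ∀ᶠ s in 𝓝 s₀, slope r s₀ s = -slope q s₀ s / B s := by
    filter_upwards [hroot, hBc.eventually_ne hB0] with s h1 h2
    have h3 : (r s - t₀) * B s = -(q s) := by
      have : (r s - t₀) * B s = ∑ k ∈ Finset.range d, c k s * (r s ^ k - t₀ ^ k) := by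
        rw [Finset.mul_sum]
        refine Finset.sum_congr rfl fun k _ => ?_
        rw [← geom_sum₂_mul]
        ring
      rw [this]
      simp only [mul_sub, Finset.sum_sub_distrib, h1, zero_sub, q]
    rw [slope_def_field, slope_def_field, hq0, sub_zero, eq_div_iff h2, div_mul_eq_mul_div, h3, neg_div]
  have hlim : Tendsto (slope r s₀) (𝓝[≠] s₀) (𝓝 (-deriv q s₀ / B s₀)) :=
    ((hasDerivAt_iff_tendsto_slope.1 hq.hasDerivAt).neg.div
      (hBc.tendsto.mono_left nhdsWithin_le_nhds) hB0).congr'
      ((key.filter_mono nhdsWithin_le_nhds).mono fun s h => h.symm)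
  exact (hasDerivAt_iff_tendsto_slope.2 hlim).differentiableAt

end Groth.Agent.An92
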