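import Groth.Agent.An92.AlgDense
import Groth.Agent.An92.Conn.OneVar
import Groth.Agent.An92.Conn.Interp
import Mathlib.Topology.Connected.Clopen
import Mathlib.FieldTheory.Separable

/-!
The complex zero set of an irreducible monic polynomial over `ℂ[T₁, …, Tₙ]`, off the locus where
its roots collide, is connected.
-/

set_option autoImplicit false

noncomputable section

open Filter Topology Polynomial

namespace Groth.Agent.An92

variable {n : ℕ}

/-- The specialisation of `P` at `z`. -/
def spec (P : (MvPolynomial (Fin n) ℂ)[X]) (z : Fin n → ℂ) : ℂ[X] := P.map (MvPolynomial.eval z)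

theorem eval_spec (P : (MvPolynomial (Fin n) ℂ)[X]) (z : Fin n → ℂ) (t : ℂ) :
    (spec P z).eval t = ∑ i ∈ Finset.range (P.natDegree + 1), MvPolynomial.eval z (P.coeff i) * t ^ i := by
  rw [spec, eval_map, eval₂_eq_sum_range]

theorem continuous_eval_spec (P : (MvPolynomial (Fin n) ℂ)[X]) (t : ℂ) :
    Continuous fun z => (spec P z).eval t := by
  simp only [eval_spec]
  exact continuous_finsetSum _ fun i _ => (MvPolynomial.continuous_eval _).mul continuous_const

theorem natDegree_spec {P : (MvPolynomial (Fin n) ℂ)[X]} (hP : P.Monic) (z : Fin n → ℂ) :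
    (spec P z).natDegree = P.natDegree :=
  hP.natDegree_map _

theorem card_roots_spec {P : (MvPolynomial (Fin n) ℂ)[X]} (hP : P.Monic) (z : Fin n → ℂ) :
    (spec P z).roots.card = P.natDegree := by
  rw [IsAlgClosed.card_roots_eq_natDegree, natDegree_spec hP]

theorem exists_near {P : (MvPolynomial (Fin n) ℂ)[X]} (hP : P.Monic) (hd : 0 < P.natDegree)
    (z : Fin n → ℂ) (r : ℂ) :
    ∃ t, (spec P z).eval t = 0 ∧ ‖r - t‖ ^ P.natDegree ≤ ‖(spec P z).eval r‖ := by
  obtain ⟨t, ht, ht'⟩ := exists_root_near (spec P z) (hP.map _) (by rwa [natDegree_spec hP]) r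
  exact ⟨t, ht, by rwa [natDegree_spec hP] at ht'⟩

/-- A root near `r`. -/
def near {P : (MvPolynomial (Fin n) ℂ)[X]} (hP : P.Monic) (hd : 0 < P.natDegree) (r : ℂ)
    (z : Fin n → ℂ) : ℂ :=
  (exists_near hP hd z r).choose

theorem near_mem_roots {P : (MvPolynomial (Fin n) ℂ)[X]} (hP : P.Monic) (hd : 0 < P.natDegree) (r : ℂ)
    (z : Fin n → ℂ) : near hP hd r z ∈ (spec P z).roots :=
  (mem_roots (hP.map _).ne_zero).2 (exists_near hP hd z r).choose_spec.1

theorem tendsto_near {P : (MvPolynomial (Fin n) ℂ)[X]} (hP : P.Monic) (hd : 0 < P.natDegree) {r : ℂ}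
    {z₀ : Fin n → ℂ} (hr : (spec P z₀).eval r = 0) :
    Tendsto (near hP hd r) (𝓝 z₀) (𝓝 r) := by
  rw [Metric.tendsto_nhds]
  intro ε hε
  have h1 : Tendsto (fun z => ‖(spec P z).eval r‖) (𝓝 z₀) (𝓝 0) := by
    have := ((continuous_eval_spec P r).tendsto z₀).norm
    rwa [hr, norm_zero] at this
  filter_upwards [h1.eventually (Iio_mem_nhds (pow_pos hε P.natDegree))] with z hz
  rw [dist_eq_norm, norm_sub_rev]
  exact lt_of_pow_lt_pow_left₀ _ hε.le (lt_of_le_of_lt (exists_near hP hd z r).choose_spec.2 hz)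

theorem eventually_roots_eq {P : (MvPolynomial (Fin n) ℂ)[X]} (hP : P.Monic) (hd : 0 < P.natDegree)
    {z₀ : Fin n → ℂ} (hsep : (spec P z₀).Separable) :
    ∀ᶠ z in 𝓝 z₀, (spec P z).roots = (spec P z₀).roots.map fun r => near hP hd r z := by
  classical
  set R := (spec P z₀).roots
  have hnd : R.Nodup := nodup_roots hsep
  have hinj : ∀ᶠ z in 𝓝 z₀, ∀ r ∈ R.toFinset, ∀ r' ∈ R.toFinset, r ≠ r' →
      near hP hd r z ≠ near hP hd r' z := by
    refine (eventually_all_finset _).2 fun r hr => (eventually_all_finset _).2 fun r' hr' => ?_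
    by_cases h : r = r'
    · exact Eventually.of_forall fun _ h' => absurd h h'
    have hroot : ∀ a ∈ R.toFinset, (spec P z₀).eval a = 0 := fun a ha =>
      ((mem_roots (hP.map _).ne_zero).1 (Multiset.mem_toFinset.1 ha) :)
    have := ((tendsto_near hP hd (hroot r hr)).sub (tendsto_near hP hd (hroot r' hr'))).eventually_ne
      (sub_ne_zero.2 h)
    exact this.mono fun z hz _ he => hz (sub_eq_zero.2 he)
  filter_upwards [hinj] with z hz
  symm
  refine Multiset.eq_of_le_of_card_le ((Multiset.le_iff_subset ?_).2 ?_) ?_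
  · refine hnd.map_on fun r hr r' hr' h => ?_
    by_contra hne
    exact hz r (Multiset.mem_toFinset.2 hr) r' (Multiset.mem_toFinset.2 hr') hne h
  · intro t ht
    obtain ⟨r, -, rfl⟩ := Multiset.mem_map.1 ht
    exact near_mem_roots hP hd r z
  · rw [Multiset.card_map, card_roots_spec hP, card_roots_spec hP]

/-- The roots over `z` lying in `u`. -/
def rootsIn (P : (MvPolynomial (Fin n) ℂ)[X]) (u : Set ((Fin n → ℂ) × ℂ)) (z : Fin n → ℂ) :
    Multiset ℂ :=
  open Classical in (spec P z).roots.filter fun t => (z, t) ∈ u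

/-- The monic polynomial with the roots over `z` lying in `u`. -/
def factorIn (P : (MvPolynomial (Fin n) ℂ)[X]) (u : Set ((Fin n → ℂ) × ℂ)) (z : Fin n → ℂ) : ℂ[X] :=
  ((rootsIn P u z).map fun t => X - C t).prod

theorem natDegree_factorIn (P : (MvPolynomial (Fin n) ℂ)[X]) (u : Set ((Fin n → ℂ) × ℂ))
    (z : Fin n → ℂ) : (factorIn P u z).natDegree = (rootsIn P u z).card :=
  natDegree_multiset_prod_X_sub_C_eq_card _

theorem differentiableAt_coeff_prod {ι : Type} (s : Multiset ι) (f : ι → ℂ → ℂ) {x : ℂ}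
    (hf : ∀ i ∈ s, DifferentiableAt ℂ (f i) x) (k : ℕ) :
    DifferentiableAt ℂ (fun y => ((s.map fun i => X - C (f i y)).prod).coeff k) x := by
  induction s using Multiset.induction_on generalizing k with
  | empty => simp [coeff_one]
  | cons a t ih =>
    have ih' := fun k => ih (fun i hi => hf i (Multiset.mem_cons_of_mem hi)) k
    simp only [Multiset.map_cons, Multiset.prod_cons, sub_mul, coeff_sub, coeff_C_mul]
    cases k with
    | zero =>
      simp only [coeff_X_mul_zero, zero_sub]
      exact ((hf a (Multiset.mem_cons_self _ _)).mul (ih' 0)).neg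
    | succ k =>
      simp only [coeff_X_mul]
      exact (ih' k).sub ((hf a (Multiset.mem_cons_self _ _)).mul (ih' (k + 1)))

theorem norm_coeff_prod_le (s : Multiset ℂ) {B : ℝ} (hB : 0 ≤ B) (h : ∀ t ∈ s, ‖t‖ ≤ B) (k : ℕ) :
    ‖((s.map fun t => X - C t).prod).coeff k‖ ≤ (1 + B) ^ s.card := by
  induction s using Multiset.induction_on generalizing k with
  | empty =>
    simp [coeff_one]
    split <;> simp
  | cons a t ih =>
    have ih' := fun k => ih (fun i hi => h i (Multiset.mem_cons_of_mem hi)) k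
    simp only [Multiset.map_cons, Multiset.prod_cons, Multiset.card_cons, sub_mul, coeff_sub,
      coeff_C_mul]
    have h1 : ‖(X * (t.map fun t => X - C t).prod).coeff k‖ ≤ (1 + B) ^ t.card := by
      cases k with
      | zero => rw [coeff_X_mul_zero, norm_zero]; positivity
      | succ k => rw [coeff_X_mul]; exact ih' k
    refine (norm_sub_le _ _).trans ?_
    rw [norm_mul, pow_succ]
    have h2 := mul_le_mul (h a (Multiset.mem_cons_self _ _)) (ih' k) (norm_nonneg _) hB
    linarith [mul_comm B ((1 + B) ^ t.card)]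

section

variable {P : (MvPolynomial (Fin n) ℂ)[X]} (hP : P.Monic) (hd : 0 < P.natDegree)
  {D : MvPolynomial (Fin n) ℂ} (hsep : ∀ z, MvPolynomial.eval z D ≠ 0 → (spec P z).Separable)
  {u v : Set ((Fin n → ℂ) × ℂ)} (hu : IsOpen u) (hv : IsOpen v)
  (hcov : ∀ z t, MvPolynomial.eval z D ≠ 0 → (spec P z).eval t = 0 → ((z, t) ∈ u ∨ (z, t) ∈ v))
  (hdis : ∀ z t, MvPolynomial.eval z D ≠ 0 → (spec P z).eval t = 0 → (z, t) ∈ u → (z, t) ∉ v)

include hsep hu hv hcov hdis in
theorem eventually_rootsIn_eq {z₀ : Fin n → ℂ} (hz₀ : MvPolynomial.eval z₀ D ≠ 0) :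
    ∀ᶠ z in 𝓝 z₀, rootsIn P u z = (rootsIn P u z₀).map fun r => near hP hd r z := by
  classical
  have hmem : ∀ᶠ z in 𝓝 z₀, ∀ r ∈ (spec P z₀).roots.toFinset,
      ((z, near hP hd r z) ∈ u ↔ (z₀, r) ∈ u) := by
    refine (eventually_all_finset _).2 fun r hr => ?_
    have hr0 : (spec P z₀).eval r = 0 := ((mem_roots (hP.map _).ne_zero).1 (Multiset.mem_toFinset.1 hr) :)
    have ht : Tendsto (fun z => (z, near hP hd r z)) (𝓝 z₀) (𝓝 (z₀, r)) :=
      tendsto_id.prodMk_nhds (tendsto_near hP hd hr0)
    rcases hcov z₀ r hz₀ hr0 with h | h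
    · exact (ht.eventually_mem (hu.mem_nhds h)).mono fun z hz => iff_of_true hz h
    · filter_upwards [ht.eventually_mem (hv.mem_nhds h),
        ((MvPolynomial.continuous_eval D).tendsto z₀).eventually_ne hz₀] with z hzv hzD
      refine iff_of_false (fun hzu => hdis z _ hzD ?_ hzu hzv) (fun h' => hdis z₀ r hz₀ hr0 h' h)
      exact ((mem_roots (hP.map _).ne_zero).1 (near_mem_roots hP hd r z) :)
  filter_upwards [eventually_roots_eq hP hd (hsep z₀ hz₀), hmem] with z hz hm
  rw [rootsIn, hz, Multiset.filter_map]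
  congr 1
  exact Multiset.filter_congr fun r hr => hm r (Multiset.mem_toFinset.2 hr)

theorem isPreconnected_compl_zero (D : MvPolynomial (Fin n) ℂ) :
    IsPreconnected {z : Fin n → ℂ | MvPolynomial.eval z D ≠ 0} := by
  refine isPreconnected_of_forall_pair fun a ha b hb => ?_
  let q := lineRestrict a (b - a) D
  have hq : ∀ s, q.eval s = MvPolynomial.eval (fun i => a i + s * (b i - a i)) D :=
    fun s => eval_lineRestrict _ _ _ _
  have hq0 : q ≠ 0 := fun h => ha (by simpa [h] using (hq 0).symm)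
  have hconn : IsPreconnected {s : ℂ | q.eval s ≠ 0} :=
    ((q.finite_setOf_isRoot hq0).countable.isPathConnected_compl_of_one_lt_rank
      (by rw [Complex.rank_real_complex]; norm_num)).isConnected.isPreconnected
  refine ⟨(fun (s : ℂ) i => a i + s * (b i - a i)) '' {s | q.eval s ≠ 0}, ?_, ⟨0, ?_, ?_⟩, ⟨1, ?_, ?_⟩,
    hconn.image _ (by fun_prop)⟩
  · rintro _ ⟨s, hs, rfl⟩
    show MvPolynomial.eval (fun i => a i + s * (b i - a i)) D ≠ 0
    rw [← hq]
    exact hs
  · show q.eval 0 ≠ 0
    rw [hq]; simpa using ha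
  · funext i; simp
  · show q.eval 1 ≠ 0
    rw [hq]; simpa using hb
  · funext i; simp

include hsep hu hv hcov hdis hd hP in
theorem card_rootsIn_eq {z z' : Fin n → ℂ} (hz : MvPolynomial.eval z D ≠ 0)
    (hz' : MvPolynomial.eval z' D ≠ 0) : (rootsIn P u z).card = (rootsIn P u z').card := by
  refine (isPreconnected_compl_zero D).constant (f := fun z => (rootsIn P u z).card)
    (fun w hw => ContinuousAt.continuousWithinAt ?_) hz hz'
  refine continuousAt_const.congr (f := fun _ => (rootsIn P u w).card) ?_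
  filter_upwards [eventually_rootsIn_eq hP hd hsep hu hv hcov hdis hw] with x hx
  rw [hx, Multiset.card_map]

include hsep hu hv hcov hdis hd hP in
theorem differentiableAt_coeff_factorIn (a b : Fin n → ℂ) (k : ℕ) {s₀ : ℂ}
    (hs₀ : MvPolynomial.eval (fun i => a i + s₀ * b i) D ≠ 0) :
    DifferentiableAt ℂ (fun s => (factorIn P u (fun i => a i + s * b i)).coeff k) s₀ := by
  set l : ℂ → Fin n → ℂ := fun s i => a i + s * b i
  have hl : Continuous l := by fun_prop
  have hev : ∀ᶠ s in 𝓝 s₀, (factorIn P u (l s)).coeff k =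
      (((rootsIn P u (l s₀)).map fun r => X - C (near hP hd r (l s))).prod).coeff k := by
    filter_upwards [hl.tendsto s₀ |>.eventually
      (eventually_rootsIn_eq hP hd hsep hu hv hcov hdis hs₀)] with s hs
    rw [factorIn, hs, Multiset.map_map]
    rfl
  refine DifferentiableAt.congr_of_eventuallyEq ?_ hev
  refine differentiableAt_coeff_prod _ (fun r s => near hP hd r (l s)) (fun r hr => ?_) k
  classical
  have hr0 : (spec P (l s₀)).eval r = 0 :=
    ((mem_roots (hP.map _).ne_zero).1 (Multiset.mem_filter.1 hr).1 :)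
  have heq : near hP hd r (l s₀) = r := by
    have h1 : ‖r - near hP hd r (l s₀)‖ ^ P.natDegree ≤ 0 :=
      (exists_near hP hd (l s₀) r).choose_spec.2.trans (by rw [hr0, norm_zero])
    exact (sub_eq_zero.1 (norm_eq_zero.1
      (pow_eq_zero_iff hd.ne' |>.1 (le_antisymm h1 (by positivity))))).symm
  refine differentiableAt_root (d := P.natDegree + 1)
    (c := fun i s => MvPolynomial.eval (l s) (P.coeff i)) (fun i => ?_) ?_
    (Eventually.of_forall fun s => ?_) ?_
  · have : (fun s => MvPolynomial.eval (l s) (P.coeff i)) =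
        fun s => (lineRestrict a b (P.coeff i)).eval s :=
      funext fun s => (eval_lineRestrict _ _ _ _).symm
    rw [this]
    exact Polynomial.differentiableAt _
  · show Tendsto _ _ (𝓝 (near hP hd r (l s₀)))
    rw [heq]
    exact (tendsto_near hP hd hr0).comp (hl.tendsto s₀)
  · rw [← eval_spec]
    exact ((mem_roots (hP.map _).ne_zero).1 (near_mem_roots hP hd r (l s)) :)
  · rw [heq]
    have h2 : (spec P (l s₀)).derivative.eval r =
        ∑ i ∈ Finset.range (P.natDegree + 1), MvPolynomial.eval (l s₀) (P.coeff i) * (i * r ^ (i - 1)) := by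
      rw [derivative_eval, sum_over_range' _ (fun i => by simp) (P.natDegree + 1)
        (Nat.lt_succ_of_le (natDegree_spec hP (l s₀)).le)]
      refine Finset.sum_congr rfl fun i _ => ?_
      rw [spec, coeff_map]
      ring
    rw [← h2]
    exact (hsep _ hs₀).eval₂_derivative_ne_zero (RingHom.id ℂ) (x := r) hr0

include hsep hu hv hcov hdis hd hP in
/-- The coefficients of the factor are polynomials. -/
theorem exists_poly_factorIn (hD : D ≠ 0) (k : ℕ) :
    ∃ G : MvPolynomial (Fin n) ℂ, ∀ z, MvPolynomial.eval z D ≠ 0 →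
      (factorIn P u z).coeff k = MvPolynomial.eval z G := by
  classical
  choose m hm using fun i => exists_bound_line (P.coeff i)
  set M := (Finset.range P.natDegree).sup m
  set N := M * P.natDegree
  -- on each line
  have hline : ∀ a b : Fin n → ℂ, (∃ s, MvPolynomial.eval (fun i => a i + s * b i) D ≠ 0) →
      ∃ p : ℂ[X], p.natDegree ≤ N ∧ ∀ s, MvPolynomial.eval (fun i => a i + s * b i) D ≠ 0 →
        (factorIn P u (fun i => a i + s * b i)).coeff k = p.eval s := by
    rintro a b ⟨s₁, hs₁⟩
    have hq0 : lineRestrict a b D ≠ 0 := fun h => hs₁ (by rw [← eval_lineRestrict, h, eval_zero])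
    have hfin : {s : ℂ | MvPolynomial.eval (fun i => a i + s * b i) D = 0}.Finite := by
      convert (lineRestrict a b D).finite_setOf_isRoot hq0 using 1
      ext s
      simp [IsRoot, eval_lineRestrict]
    choose Ci hC0 hCi using fun i => hm i a b
    set C := ∑ i ∈ Finset.range P.natDegree, Ci i
    obtain ⟨p, hp, hpe⟩ := exists_polynomial_of_growth_off_finite hfin
      (fun s => (factorIn P u (fun i => a i + s * b i)).coeff k) ((2 + C) ^ P.natDegree) N
      (fun s hs => differentiableAt_coeff_factorIn hP hd hsep hu hv hcov hdis a b k hs) (fun s hs => by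
        have h1 : (1 : ℝ) ≤ 1 + ‖s‖ := le_add_of_nonneg_right (norm_nonneg s)
        have hC : 0 ≤ C := Finset.sum_nonneg fun i _ => hC0 i
        have hroot : ∀ t ∈ rootsIn P u (fun i => a i + s * b i), ‖t‖ ≤ 1 + C * (1 + ‖s‖) ^ M := by
          intro t ht
          refine (norm_le_of_isRoot _ (hP.map _) t
            ((mem_roots (hP.map _).ne_zero).1 (Multiset.mem_filter.1 ht).1 :)).trans ?_
          rw [hP.natDegree_map, Finset.sum_mul]
          refine add_le_add le_rfl (Finset.sum_le_sum fun i hi => ?_)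
          rw [coeff_map]
          exact (hCi i s).trans (mul_le_mul_of_nonneg_left
            (pow_le_pow_right₀ h1 (Finset.le_sup hi)) (hC0 i))
        refine (norm_coeff_prod_le _ (by positivity) hroot k).trans ?_
        have hle : 1 + (1 + C * (1 + ‖s‖) ^ M) ≤ (2 + C) * (1 + ‖s‖) ^ M := by
          nlinarith [one_le_pow₀ (n := M) h1]
        refine (pow_le_pow_right₀ (le_add_of_nonneg_right (by positivity))
          (show _ ≤ P.natDegree from
            (Multiset.card_le_card (Multiset.filter_le _ _)).trans (card_roots_spec hP _).le)).trans ?_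
        refine (pow_le_pow_left₀ (by positivity) hle _).trans ?_
        rw [mul_pow, ← pow_mul])
    exact ⟨p, hp, hpe⟩
  -- a box in the good locus
  obtain ⟨z₁, hz₁⟩ : ∃ z, MvPolynomial.eval z D ≠ 0 := by
    by_contra! h
    exact hD (MvPolynomial.funext fun z => by rw [h z, map_zero])
  obtain ⟨ε, hε, hball⟩ := Metric.isOpen_iff.1
    ((isOpen_ne).preimage (MvPolynomial.continuous_eval D)) z₁ hz₁
  have hbox : ∀ x : Fin n → ℂ, (∀ i, x i ∈ Metric.ball (z₁ i) ε) → MvPolynomial.eval x D ≠ 0 :=
    fun x hx => hball ((dist_pi_lt_iff hε).2 fun i => hx i)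
  obtain ⟨G, hG⟩ := exists_mvPolynomial_of_separately N (fun i => Metric.ball (z₁ i) ε)
    (fun i => infinite_of_mem_nhds (z₁ i) (Metric.ball_mem_nhds _ hε))
    (fun z => (factorIn P u z).coeff k) (fun x hx i => by
      have hl : ∀ s, (fun j => Function.update x i 0 j + s * (Pi.single i (1 : ℂ) : Fin n → ℂ) j) =
          Function.update x i s := fun s => by
        funext j
        rcases eq_or_ne j i with rfl | h
        · simp
        · simp [h]
      obtain ⟨p, hp, hpe⟩ := hline (Function.update x i 0) (Pi.single i 1)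
        ⟨x i, by rw [hl, Function.update_eq_self]; exact hbox x hx⟩
      refine ⟨p, hp, fun s hs => ?_⟩
      have := hpe s (by
        rw [hl]
        refine hbox _ fun j => ?_
        rcases eq_or_ne j i with rfl | h
        · simpa using hs
        · simpa [h] using hx j)
      rwa [hl] at this)
  refine ⟨G, fun z hz => ?_⟩
  obtain ⟨p, -, hpe⟩ := hline z₁ (z - z₁) ⟨0, by simpa using hz₁⟩
  have hsmall : ∀ᶠ s in 𝓝 (0 : ℂ), ∀ i, z₁ i + s * (z - z₁) i ∈ Metric.ball (z₁ i) ε := by
    refine eventually_all.2 fun i => ?_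
    have : Tendsto (fun s : ℂ => z₁ i + s * (z - z₁) i) (𝓝 0) (𝓝 (z₁ i)) := by
      have h := (show Continuous fun s : ℂ => z₁ i + s * (z - z₁) i by fun_prop).tendsto 0
      simpa using h
    exact this.eventually_mem (Metric.ball_mem_nhds _ hε)
  have heq : p = lineRestrict z₁ (z - z₁) G := by
    refine eq_of_infinite_eval_eq _ _ ((infinite_of_mem_nhds 0 hsmall).mono fun s hs => ?_)
    show p.eval s = _
    rw [eval_lineRestrict, ← hpe s (hbox _ hs), ← hG _ hs]
  have h1 : (fun i => z₁ i + 1 * (z - z₁) i) = z := by funext i; simp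
  have := hpe 1 (by rwa [h1])
  rw [h1, heq, eval_lineRestrict, h1] at this
  exact this

include hsep hu hv hcov hdis hd hP in
theorem exists_monic_factorIn (hD : D ≠ 0) :
    ∃ Q : (MvPolynomial (Fin n) ℂ)[X], ∀ z, MvPolynomial.eval z D ≠ 0 →
      Q.map (MvPolynomial.eval z) = factorIn P u z := by
  choose G hG using exists_poly_factorIn hP hd hsep hu hv hcov hdis hD
  refine ⟨∑ k ∈ Finset.range (P.natDegree + 1), Polynomial.C (G k) * X ^ k, fun z hz => ?_⟩
  rw [Polynomial.map_sum, (factorIn P u z).as_sum_range' (P.natDegree + 1) (Nat.lt_succ_of_le ?_)]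
  · refine Finset.sum_congr rfl fun k _ => ?_
    rw [Polynomial.map_mul, Polynomial.map_pow, map_C, map_X, C_mul_X_pow_eq_monomial, hG k z hz]
  · classical
    rw [natDegree_factorIn]
    exact (Multiset.card_le_card (Multiset.filter_le _ _)).trans (card_roots_spec hP z).le

end

/-- The part of the zero set of an irreducible monic polynomial over the good locus is connected. -/
theorem isPreconnected_zeroSet {P : (MvPolynomial (Fin n) ℂ)[X]} (hP : P.Monic) (hirr : Irreducible P)
    {D : MvPolynomial (Fin n) ℂ} (hD : D ≠ 0)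
    (hsep : ∀ z, MvPolynomial.eval z D ≠ 0 → (spec P z).Separable) :
    IsPreconnected {q : (Fin n → ℂ) × ℂ | MvPolynomial.eval q.1 D ≠ 0 ∧ (spec P q.1).eval q.2 = 0} := by
  classical
  intro u v hu hv hsub ⟨⟨zu, tu⟩, ⟨hzu, htu⟩, hmu⟩ ⟨⟨zv, tv⟩, ⟨hzv, htv⟩, hmv⟩
  by_contra hne
  have hcov : ∀ z t, MvPolynomial.eval z D ≠ 0 → (spec P z).eval t = 0 → ((z, t) ∈ u ∨ (z, t) ∈ v) :=
    fun z t hz ht => hsub ⟨hz, ht⟩
  have hdis : ∀ z t, MvPolynomial.eval z D ≠ 0 → (spec P z).eval t = 0 → (z, t) ∈ u → (z, t) ∉ v :=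
    fun z t hz ht h h' => hne ⟨(z, t), ⟨hz, ht⟩, h, h'⟩
  have hd : 0 < P.natDegree := hP.natDegree_pos.2 (hirr.ne_one)
  obtain ⟨F, hF⟩ := exists_monic_factorIn hP hd hsep hu hv hcov hdis hD
  obtain ⟨G, hG⟩ := exists_monic_factorIn hP hd hsep hv hu (fun z t a b => (hcov z t a b).symm)
    (fun z t a b h h' => hdis z t a b h' h) hD
  have hpos : 0 < (rootsIn P u zu).card :=
    Multiset.card_pos_iff_exists_mem.2 ⟨tu, Multiset.mem_filter.2 ⟨(mem_roots (hP.map _).ne_zero).2 htu, hmu⟩⟩
  have hpos' : 0 < (rootsIn P v zu).card := by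
    rw [card_rootsIn_eq hP hd hsep hv hu (fun z t a b => (hcov z t a b).symm)
      (fun z t a b h h' => hdis z t a b h' h) hzu hzv]
    exact Multiset.card_pos_iff_exists_mem.2
      ⟨tv, Multiset.mem_filter.2 ⟨(mem_roots (hP.map _).ne_zero).2 htv, hmv⟩⟩
  have hmul : P = F * G := by
    refine sub_eq_zero.1 ?_
    ext1 k
    rw [coeff_zero]
    by_contra hk
    refine mul_ne_zero hk hD (MvPolynomial.funext fun z => ?_)
    rw [map_mul, map_zero]
    by_cases hz : MvPolynomial.eval z D = 0
    · rw [hz, mul_zero]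
    refine mul_eq_zero_of_left ?_ _
    rw [← coeff_map, Polynomial.map_sub, Polynomial.map_mul, hF z hz, hG z hz]
    have : rootsIn P v z = (spec P z).roots.filter fun t => ¬ (z, t) ∈ u :=
      Multiset.filter_congr fun t ht => by
        have ht0 := (mem_roots (hP.map _).ne_zero).1 ht
        exact ⟨fun h h' => hdis z t hz ht0 h' h, fun h => (hcov z t hz ht0).resolve_left h⟩
    rw [factorIn, factorIn, this, rootsIn, ← Multiset.prod_add, ← Multiset.map_add,
      Multiset.filter_add_not, prod_multiset_X_sub_C_of_monic_of_roots_card_eq (p := spec P z) (hP.map _)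
        (by rw [card_roots_spec hP, natDegree_spec hP]), spec, sub_self, coeff_zero]
  rcases hirr.isUnit_or_isUnit hmul with h | h
  · have h1 := natDegree_eq_zero_of_isUnit h
    have h2 := natDegree_map_le (f := MvPolynomial.eval zu) (p := F)
    rw [hF zu hzu, natDegree_factorIn, h1] at h2
    omega
  · have h1 := natDegree_eq_zero_of_isUnit h
    have h2 := natDegree_map_le (f := MvPolynomial.eval zu) (p := G)
    rw [hG zu hzu, natDegree_factorIn, h1] at h2
    omega

end Groth.Agent.An92
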