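import Groth.Agent.An92.Conn.Cover
import Groth.Agent.An92.UnivClosed
import Mathlib.RingTheory.NoetherNormalization
import Mathlib.FieldTheory.PrimitiveElement
import Mathlib.FieldTheory.Minpoly.IsIntegrallyClosed
import Mathlib.RingTheory.Algebraic.Integral
import Mathlib.RingTheory.Localization.Finiteness
import Mathlib.RingTheory.Ideal.GoingUp
import Mathlib.RingTheory.Polynomial.UniqueFactorization

/-!
The complex points of a finitely generated domain form a connected space.
-/

set_option autoImplicit false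

noncomputable section

open Filter Topology Polynomial
open scoped nonZeroDivisors IntermediateField

namespace Groth.Agent.An92

theorem aeval_eq_eval_spec {k : ℕ} {A : Type} [CommRing A] [Algebra (MvPolynomial (Fin k) ℂ) A]
    (φ : A →+* ℂ) (z : Fin k → ℂ)
    (hφ : ∀ b : MvPolynomial (Fin k) ℂ, φ (algebraMap _ A b) = MvPolynomial.eval z b)
    (a : A) (q : (MvPolynomial (Fin k) ℂ)[X]) :
    φ (Polynomial.aeval a q) = (spec q z).eval (φ a) := by
  rw [aeval_def, hom_eval₂, spec, eval_map]
  congr 1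
  exact RingHom.ext hφ

set_option maxHeartbeats 1000000 in
theorem isPreconnected_range_algHom {A : Type} [CommRing A] [IsDomain A] [Algebra ℂ A] {m : ℕ}
    (s : Fin m → A) (hs : Function.Surjective (MvPolynomial.aeval s : MvPolynomial (Fin m) ℂ →ₐ[ℂ] A)) :
    IsPreconnected (Set.range fun (φ : A →ₐ[ℂ] ℂ) j => φ (s j)) := by
  classical
  have : Algebra.FiniteType ℂ A := Algebra.FiniteType.of_surjective _ hs
  obtain ⟨k, g, hginj, hgfin⟩ := exists_finite_inj_algHom_of_fg ℂ A
  letI : Algebra (MvPolynomial (Fin k) ℂ) A := g.toRingHom.toAlgebra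
  have : IsScalarTower ℂ (MvPolynomial (Fin k) ℂ) A := IsScalarTower.of_algebraMap_eq fun c => (g.commutes c).symm
  have : Module.Finite (MvPolynomial (Fin k) ℂ) A := hgfin
  have hmap : ∀ b, algebraMap (MvPolynomial (Fin k) ℂ) A b = g b := fun _ => rfl
  have : FaithfulSMul (MvPolynomial (Fin k) ℂ) A := (faithfulSMul_iff_algebraMap_injective _ _).2 hginj
  let F := FractionRing (MvPolynomial (Fin k) ℂ)
  let L := FractionRing A
  letI : Algebra F L := FractionRing.liftAlgebra _ _
  have : Algebra.IsIntegral (MvPolynomial (Fin k) ℂ) A := Algebra.IsIntegral.of_finite _ _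
  have : FiniteDimensional F L :=
    Module.Finite.of_isLocalization (MvPolynomial (Fin k) ℂ) A (MvPolynomial (Fin k) ℂ)⁰
  have : CharZero F := charZero_of_injective_ringHom
    (((algebraMap (MvPolynomial (Fin k) ℂ) F).comp (algebraMap ℂ (MvPolynomial (Fin k) ℂ))).injective)
  obtain ⟨α, hα⟩ := Field.exists_primitive_element F L
  obtain ⟨⟨a, ⟨_, r, hr, rfl⟩⟩, har⟩ :=
    IsLocalization.surj (Algebra.algebraMapSubmonoid A (MvPolynomial (Fin k) ℂ)⁰) α
  simp only at har
  have hr0 : algebraMap (MvPolynomial (Fin k) ℂ) F r ≠ 0 :=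
    (map_ne_zero_iff _ (IsFractionRing.injective _ F)).2 (nonZeroDivisors.ne_zero hr)
  have hrL : algebraMap A L (algebraMap (MvPolynomial (Fin k) ℂ) A r) =
      algebraMap F L (algebraMap (MvPolynomial (Fin k) ℂ) F r) := by
    rw [← IsScalarTower.algebraMap_apply, ← IsScalarTower.algebraMap_apply]
  have ha : F⟮algebraMap A L a⟯ = ⊤ := by
    rw [← top_le_iff, ← hα, IntermediateField.adjoin_simple_le_iff]
    have h1 : α = algebraMap A L a * (algebraMap F L (algebraMap (MvPolynomial (Fin k) ℂ) F r))⁻¹ := by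
      rw [eq_mul_inv_iff_mul_eq₀ ((_root_.map_ne_zero _).2 hr0), ← hrL]
      exact har
    rw [h1]
    exact mul_mem (IntermediateField.mem_adjoin_simple_self F _)
      (inv_mem (IntermediateField.algebraMap_mem _ _))
  have hint : IsIntegral (MvPolynomial (Fin k) ℂ) a := Algebra.IsIntegral.isIntegral a
  set P := minpoly (MvPolynomial (Fin k) ℂ) a with hPdef
  have hP : P.Monic := minpoly.monic hint
  have hirr : Irreducible P := minpoly.irreducible hint
  have hPF : minpoly F (algebraMap A L a) = P.map (algebraMap _ F) :=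
    minpoly.isIntegrallyClosed_eq_field_fractions F L hint
  -- a Bezout relation
  obtain ⟨U, V, d, hd0, hbez⟩ : ∃ (U V : (MvPolynomial (Fin k) ℂ)[X]) (d : MvPolynomial (Fin k) ℂ),
      d ≠ 0 ∧ U * P + V * derivative P = Polynomial.C d := by
    obtain ⟨u, v, huv⟩ := (separable_def' _).1
      (hPF ▸ (minpoly.irreducible (Algebra.IsIntegral.isIntegral (algebraMap A L a))).separable :
        (P.map (algebraMap _ F)).Separable)
    obtain ⟨bu, hbu, hu⟩ := IsLocalization.integerNormalization_spec (MvPolynomial (Fin k) ℂ)⁰ u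
    obtain ⟨bv, hbv, hv⟩ := IsLocalization.integerNormalization_spec (MvPolynomial (Fin k) ℂ)⁰ v
    refine ⟨Polynomial.C bv * IsLocalization.integerNormalization (MvPolynomial (Fin k) ℂ)⁰ u,
      Polynomial.C bu * IsLocalization.integerNormalization (MvPolynomial (Fin k) ℂ)⁰ v, bu * bv,
      mul_ne_zero (nonZeroDivisors.ne_zero hbu) (nonZeroDivisors.ne_zero hbv), ?_⟩
    refine map_injective _ (IsFractionRing.injective _ F) ?_
    simp only [Polynomial.map_add, Polynomial.map_mul, map_C, hu, hv, ← derivative_map,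
      ← algebraMap_smul F bu, ← algebraMap_smul F bv, smul_eq_C_mul, map_mul]
    linear_combination (Polynomial.C (algebraMap _ F bu) * Polynomial.C (algebraMap _ F bv)) * huv
  -- every generator is a rational expression in `a`
  have hgen : ∀ j, ∃ (q : (MvPolynomial (Fin k) ℂ)[X]) (r : MvPolynomial (Fin k) ℂ), r ≠ 0 ∧
      algebraMap _ A r * s j = Polynomial.aeval a q := by
    intro j
    have h1 : algebraMap A L (s j) ∈ (F⟮algebraMap A L a⟯).toSubalgebra := by rw [ha]; trivial
    rw [IntermediateField.adjoin_simple_toSubalgebra_of_isAlgebraic (Algebra.IsAlgebraic.isAlgebraic _),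
      Algebra.adjoin_singleton_eq_range_aeval] at h1
    obtain ⟨q, hq⟩ := h1
    obtain ⟨b, hb, hbq⟩ := IsLocalization.integerNormalization_spec (MvPolynomial (Fin k) ℂ)⁰ q
    refine ⟨IsLocalization.integerNormalization (MvPolynomial (Fin k) ℂ)⁰ q, b, nonZeroDivisors.ne_zero hb,
      IsFractionRing.injective A L ?_⟩
    rw [map_mul, ← IsScalarTower.algebraMap_apply, ← aeval_algebraMap_apply,
      ← aeval_map_algebraMap F, hbq, ← algebraMap_smul F b, map_smul, Algebra.smul_def,
      ← IsScalarTower.algebraMap_apply]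
    exact congrArg _ hq.symm
  choose q r hr' hq using hgen
  let D : MvPolynomial (Fin k) ℂ := d * ∏ j, r j
  have hD : D ≠ 0 := mul_ne_zero hd0 (Finset.prod_ne_zero_iff.2 fun j _ => hr' j)
  have hsep : ∀ z, MvPolynomial.eval z D ≠ 0 → (spec P z).Separable := by
    intro z hz
    have hdz : MvPolynomial.eval z d ≠ 0 := left_ne_zero_of_mul (by rwa [← map_mul])
    refine (separable_def' _).2 ⟨Polynomial.C (MvPolynomial.eval z d)⁻¹ * spec U z,
      Polynomial.C (MvPolynomial.eval z d)⁻¹ * spec V z, ?_⟩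
    have h1 : spec U z * spec P z + spec V z * derivative (spec P z) =
        Polynomial.C (MvPolynomial.eval z d) := by
      have := congrArg (Polynomial.map (MvPolynomial.eval z)) hbez
      simpa [spec, derivative_map] using this
    rw [mul_assoc, mul_assoc, ← mul_add, h1, ← map_mul, inv_mul_cancel₀ hdz, map_one]
  let M : Set ((Fin k → ℂ) × ℂ) := {w | MvPolynomial.eval w.1 D ≠ 0 ∧ (spec P w.1).eval w.2 = 0}
  let h : (Fin k → ℂ) × ℂ → Fin m → ℂ := fun w j =>
    (spec (q j) w.1).eval w.2 / MvPolynomial.eval w.1 (r j)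
  have hrz : ∀ w : (Fin k → ℂ) × ℂ, MvPolynomial.eval w.1 D ≠ 0 → ∀ j,
      MvPolynomial.eval w.1 (r j) ≠ 0 := by
    intro w hw j
    simp only [D, map_mul, map_prod] at hw
    exact Finset.prod_ne_zero_iff.1 (right_ne_zero_of_mul hw) j (Finset.mem_univ j)
  have hh : ContinuousOn h M := continuousOn_pi.2 fun j => by
    refine ContinuousOn.div ?_ ((MvPolynomial.continuous_eval _).comp continuous_fst).continuousOn
      fun w hw => hrz w hw.1 j
    refine Continuous.continuousOn ?_
    simp only [eval_spec]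
    exact continuous_finsetSum _ fun i _ =>
      ((MvPolynomial.continuous_eval _).comp continuous_fst).mul (continuous_snd.pow i)
  have hpre : IsPreconnected (h '' M) := (isPreconnected_zeroSet hP hirr hD hsep).image h hh
  have hkey : ∀ (φ : A →ₐ[ℂ] ℂ) (z : Fin k → ℂ), (∀ b, φ (algebraMap _ A b) = MvPolynomial.eval z b) →
      MvPolynomial.eval z D ≠ 0 → (z, φ a) ∈ M ∧ h (z, φ a) = fun j => φ (s j) := by
    intro φ z hφ hz
    refine ⟨⟨hz, ?_⟩, funext fun j => ?_⟩
    · show (spec P z).eval (φ a) = 0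
      rw [← RingHom.coe_coe, ← aeval_eq_eval_spec (φ : A →+* ℂ) z hφ, minpoly.aeval, map_zero]
    · show (spec (q j) z).eval (φ a) / _ = _
      rw [← RingHom.coe_coe, ← aeval_eq_eval_spec (φ : A →+* ℂ) z hφ, ← hq, map_mul, RingHom.coe_coe, hφ,
        mul_div_assoc, mul_comm, div_mul_cancel₀ _ (hrz (z, φ a) hz j)]
  refine hpre.subset_closure ?_ ?_
  · -- every point of `M` extends
    rintro _ ⟨⟨z, t⟩, ⟨hz, ht⟩, rfl⟩
    let ψ : AdjoinRoot P →+* ℂ := AdjoinRoot.lift (MvPolynomial.eval z) t
      (by rw [← eval_map]; exact ht)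
    let ι : AdjoinRoot P →+* A := AdjoinRoot.lift (algebraMap (MvPolynomial (Fin k) ℂ) A) a (minpoly.aeval _ a)
    letI : Algebra (AdjoinRoot P) A := ι.toAlgebra
    have : IsScalarTower (MvPolynomial (Fin k) ℂ) (AdjoinRoot P) A :=
      IsScalarTower.of_algebraMap_eq fun b => (AdjoinRoot.lift_of (minpoly.aeval _ a)).symm
    have : Algebra.IsIntegral (AdjoinRoot P) A := Algebra.IsIntegral.tower_top (MvPolynomial (Fin k) ℂ)
    have hψ : Function.Surjective ψ := fun c =>
      ⟨AdjoinRoot.of P (MvPolynomial.C c), by simp [ψ]⟩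
    have : (RingHom.ker ψ).IsMaximal := RingHom.ker_isMaximal_of_surjective ψ hψ
    have hker : RingHom.ker (algebraMap (AdjoinRoot P) A) ≤ RingHom.ker ψ := by
      intro x hx
      obtain ⟨f, rfl⟩ := AdjoinRoot.mk_surjective x
      have h1 : Polynomial.aeval a f = 0 := by
        have : ι (AdjoinRoot.mk P f) = 0 := hx
        rwa [AdjoinRoot.lift_mk] at this
      obtain ⟨e, rfl⟩ := minpoly.isIntegrallyClosed_dvd hint h1
      rw [← hPdef, map_mul, AdjoinRoot.mk_self, zero_mul]
      exact (RingHom.ker ψ).zero_mem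
    obtain ⟨Q, hQ, hQc⟩ := Ideal.exists_ideal_over_maximal_of_isIntegral (S := A) (RingHom.ker ψ) hker
    obtain ⟨φ, hφ⟩ := exists_algHom Q hQ.ne_top
    have hext : ∀ x, φ (ι x) = ψ x := by
      intro x
      have hmem : x - AdjoinRoot.of P (MvPolynomial.C (ψ x)) ∈ RingHom.ker ψ := by
        rw [RingHom.mem_ker, map_sub]
        simp [ψ]
      rw [← hQc] at hmem
      have h0 : φ (ι (x - AdjoinRoot.of P (MvPolynomial.C (ψ x)))) = 0 := hφ _ hmem
      rw [map_sub, map_sub, sub_eq_zero, show ι (AdjoinRoot.of P (MvPolynomial.C (ψ x))) = algebraMap ℂ A (ψ x) from ?_] at h0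
      · rw [h0]; exact φ.commutes _
      · show ι (AdjoinRoot.of P _) = _
        rw [show ι (AdjoinRoot.of P _) = _ from AdjoinRoot.lift_of (minpoly.aeval _ a)]
        exact g.commutes _
    have hb : ∀ b, φ (algebraMap _ A b) = MvPolynomial.eval z b := fun b => by
      have := hext (AdjoinRoot.of P b)
      simpa [ι, ψ] using this
    have hta : φ a = t := by
      have := hext (AdjoinRoot.root P)
      simpa [ι, ψ] using this
    exact ⟨φ, by rw [← hta, (hkey φ z hb hz).2]⟩
  · -- they are dense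
    rintro _ ⟨φ₀, rfl⟩
    rw [mem_closure_iff_nhds]
    intro O hO
    obtain ⟨φ, hφO, hφD⟩ := exists_algHom_near s hs
      (h := algebraMap (MvPolynomial (Fin k) ℂ) A D) ((map_ne_zero_iff _ hginj).2 hD) φ₀ hO
    have hb : ∀ b, φ (algebraMap _ A b) = MvPolynomial.eval (fun i => φ (g (MvPolynomial.X i))) b := by
      intro b
      rw [hmap]
      exact DFunLike.congr_fun (show φ.comp g = MvPolynomial.aeval (fun i => φ (g (MvPolynomial.X i))) from
        MvPolynomial.algHom_ext fun i => by simp) b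
    obtain ⟨hM, hh'⟩ := hkey φ _ hb (hb D ▸ hφD)
    exact ⟨fun j => φ (s j), hφO, ⟨_, hM, hh'⟩⟩

end Groth.Agent.An92
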