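import Groth.Agent.An92.Conn.EpsFull
import Groth.Prelude.Def_AnEps
import Mathlib.CategoryTheory.Sites.CoverPreserving
import Mathlib.CategoryTheory.Functor.Flat
import Mathlib.CategoryTheory.Sites.Pullback
import Groth.Agent.An92.Conn.LanExact

/-!
The comparison functor from the small etale site to the classical site is flat and continuous.
-/

set_option autoImplicit false

noncomputable section

open AlgebraicGeometry CategoryTheory CategoryTheory.Limits TopologicalSpace Topology Opposite

namespace Groth.Agent.An92

open An An.Pts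

variable (X : Scheme.{0}) [X.Over SC] [LocallyOfFiniteType (X ↘ SC)] [Fact EtaleLH]

omit [Fact EtaleLH] in
theorem etale_lft (U : X.Etale) : LocallyOfFiniteType (U.left ↘ SC) :=
  inferInstanceAs (LocallyOfFiniteType ((U.left ↘ X) ≫ X ↘ SC))

theorem representablyFlat_eps : RepresentablyFlat (eps X) := ⟨fun A => by
  have hne : Nonempty (StructuredArrow A (eps X)) := ⟨StructuredArrow.mk (Y := EtCoh.top X)
    ((An.Cl.selfIsTerminal (Pts X)).from A ≫ (epsTopIso X).inv)⟩
  have : IsCofilteredOrEmpty (StructuredArrow A (eps X)) := by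
    refine ⟨fun a b => ?_, fun a b f g => ?_⟩
    · let U := a.right
      let V := b.right
      have := etale_lft X U
      have := etale_lft X V
      let W : X.Etale := MorphismProperty.Over.mk ⊤ (pullback.fst (U.left ↘ X) (V.left ↘ X) ≫ (U.left ↘ X))
        inferInstance
      let p : W ⟶ U := MorphismProperty.Over.homMk (pullback.fst _ _) rfl
      let q : W ⟶ V := MorphismProperty.Over.homMk (pullback.snd _ _) pullback.condition.symm
      have hcond : ∀ z, (a.hom.toFun z).1 ≫ (U.left ↘ X) = (b.hom.toFun z).1 ≫ (V.left ↘ X) := fun z =>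
        congrArg Subtype.val ((a.hom.over z).trans (b.hom.over z).symm)
      let l : A.E → Pts W.left := fun z => ⟨pullback.lift (a.hom.toFun z).1 (b.hom.toFun z).1 (hcond z), by
        show pullback.lift _ _ (hcond z) ≫ (pullback.fst _ _ ≫ (U.left ↘ X)) ≫ X ↘ SC = 𝟙 SC
        rw [Category.assoc, pullback.lift_fst_assoc]
        exact (a.hom.toFun z).2⟩
      have hlp : ∀ z, ((eps X).map p).toFun (l z) = a.hom.toFun z := fun z =>
        Subtype.ext (pullback.lift_fst _ _ _)
      have hlq : ∀ z, ((eps X).map q).toFun (l z) = b.hom.toFun z := fun z =>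
        Subtype.ext (pullback.lift_snd _ _ _)
      have hl : Continuous l := by
        have hover : ∀ z : A.E, (pullback.lift (a.hom.toFun z).1 (b.hom.toFun z).1 (hcond z)) ≫
            pullback.fst (U.left ↘ X) (V.left ↘ X) ≫ U.left ↘ SC = 𝟙 SC := fun z => by
          rw [pullback.lift_fst_assoc]; exact (a.hom.toFun z).2
        let ll : A.E → Pts (pullback (U.left ↘ X) (V.left ↘ X)) := fun z => ⟨_, hover z⟩
        have hll : Continuous ll := by
          rw [(isHomeomorph_pullback (U.left ↘ X) (V.left ↘ X)).isEmbedding.isInducing.continuous_iff]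
          have : Continuous fun z => (a.hom.toFun z, b.hom.toFun z) :=
            a.hom.continuous.prodMk b.hom.continuous
          refine Continuous.subtype_mk ?_ _
          exact this.congr fun z =>
            (Prod.ext (Subtype.ext (pullback.lift_fst _ _ _)) (Subtype.ext (pullback.lift_snd _ _ _))).symm
        exact ((Pts.cast _ _ (show (pullback.fst (U.left ↘ X) (V.left ↘ X) ≫ U.left ↘ SC) = (W.left ↘ SC) from
          (Category.assoc _ _ _).symm)).continuous.comp hll)
      let hom : A ⟶ (eps X).obj W := ⟨l, hl, fun z => by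
        rw [← ((eps X).map p).over (l z), hlp]
        exact a.hom.over z⟩
      exact ⟨StructuredArrow.mk hom, StructuredArrow.homMk p (Cl.hom_ext (funext hlp)),
        StructuredArrow.homMk q (Cl.hom_ext (funext hlq)), trivial⟩
    · let U := a.right
      let V := b.right
      obtain ⟨O, hO, hOmax, -⟩ := Groth.Agent.Unr55.exists_eqLocus (V.left ↘ X) f.right.left g.right.left
        ((Over.w f.right.hom).trans (Over.w g.right.hom).symm)
      let W : X.Etale := MorphismProperty.Over.mk ⊤ (O.ι ≫ (U.left ↘ X)) inferInstance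
      let p : W ⟶ U := MorphismProperty.Over.homMk O.ι rfl
      have hmem : ∀ z, (a.hom.toFun z).pt ∈ O := fun z => by
        refine hOmax (a.hom.toFun z).1 ?_ ⟨cpt, rfl⟩
        have hf := congrFun (congrArg An.Cl.Hom.toFun (StructuredArrow.w f)) z
        have hg := congrFun (congrArg An.Cl.Hom.toFun (StructuredArrow.w g)) z
        exact congrArg Subtype.val (hf.trans hg.symm)
      have hrange : Set.range ((eps X).map p).toFun = Pts.pt ⁻¹' (O : Set U.left) := by
        refine subset_antisymm ?_ fun x hx => ?_
        · rintro _ ⟨y, rfl⟩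
          exact (y.1 cpt).2
        · obtain ⟨y, rfl⟩ := (range_map_opensι (X := U.left) O).ge hx
          refine ⟨⟨y.1, ?_⟩, Subtype.ext rfl⟩
          show y.1 ≫ (O.ι ≫ (U.left ↘ X)) ≫ X ↘ SC = 𝟙 SC
          rw [Category.assoc]
          exact y.2
      have hemb : IsEmbedding ((eps X).map p).toFun := by
        have : IsOpenImmersion p.left := inferInstanceAs (IsOpenImmersion O.ι)
        exact isEmbedding_map_of_isImmersion (X := W.left) (Y := U.left) p.left
      have hl : ∀ z, a.hom.toFun z ∈ Set.range ((eps X).map p).toFun := fun z => hrange.ge (hmem z)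
      choose l hlp using hl
      let hom : A ⟶ (eps X).obj W := ⟨l,
        hemb.isInducing.continuous_iff.2 (by
          have : ((eps X).map p).toFun ∘ l = a.hom.toFun := funext hlp
          rw [this]; exact a.hom.continuous),
        fun z => by rw [← ((eps X).map p).over (l z), hlp]; exact a.hom.over z⟩
      exact ⟨StructuredArrow.mk hom, StructuredArrow.homMk p (Cl.hom_ext (funext hlp)),
        StructuredArrow.hom_ext _ _ (MorphismProperty.Over.Hom.ext hO)⟩
  exact { nonempty := hne }⟩

theorem coverPreserving_eps : CoverPreserving X.smallEtaleTopology (Cl.topology (Pts X)) (eps X) := by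
  refine ⟨fun {U} S hS a => ?_⟩
  obtain ⟨ι, Z, f, rfl⟩ := S.exists_eq_ofArrows
  have hcov := (Scheme.ofArrows_mem_smallEtaleTopology_iff f).1 hS
  obtain ⟨i, hi⟩ := Set.mem_iUnion.1 (hcov.ge (Set.mem_univ (Pts.pt (X := U.left) a)))
  have := etale_lft X U
  have := etale_lft X (Z i)
  have : Scheme.Hom.IsOver (X := (Z i).left) (Y := U.left) (f i).left SC := An.etaleOverMap X (f i)
  obtain ⟨v, hv⟩ := (range_map (X := (Z i).left) (Y := U.left) (f i).left).ge hi
  have hlh : IsLocalHomeomorph ((eps X).map (f i)).toFun :=
    IsLocalHomeomorph.of_comp (g := ((eps X).obj U).p) (by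
      have : ((eps X).obj U).p ∘ ((eps X).map (f i)).toFun = ((eps X).obj (Z i)).p :=
        funext ((eps X).map (f i)).over
      rw [this]; exact ((eps X).obj (Z i)).lh) ((eps X).obj U).lh ((eps X).map (f i)).continuous
  obtain ⟨W, hW, hemb⟩ := isLocalHomeomorph_iff_isOpenEmbedding_restrict.1 hlh v
  obtain ⟨O, hOW, hO, hvO⟩ := mem_nhds_iff.1 hW
  refine ⟨_, Cl.restrictOpenι ((eps X).obj (Z i)) O hO ≫ (eps X).map (f i),
    ⟨Z i, f i, Cl.restrictOpenι _ O hO, Sieve.ofArrows_mk _ _ i, rfl⟩, ?_, ⟨v, hvO⟩, hv⟩
  exact hemb.comp (g := Set.restrict W ((eps X).map (f i)).toFun) (f := Set.inclusion hOW)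
    ⟨IsEmbedding.inclusion hOW, by
      rw [Set.range_inclusion]; exact hO.preimage continuous_subtype_val⟩

theorem epsCont : EpsCont X :=
  haveI := representablyFlat_eps X
  Functor.isContinuous_of_coverPreserving (compatiblePreservingOfFlat _ _) (coverPreserving_eps X)

theorem epsPull_preservesFiniteLimits [EpsCont X] : PreservesFiniteLimits (epsPull X) := by
  have := representablyFlat_eps X
  have := lan_preservesFiniteLimits (eps X)
  exact Functor.sheafPullbackConstruction.preservesFiniteLimits (eps X) AddCommGrpCat.{1} _ _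

end Groth.Agent.An92
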