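import Groth.Agent.An92.Conn.Connected
import Groth.Agent.An92.Maps
import Groth.Agent.Unr55.Rigid
import Groth.Prelude.Def_AnEps
import Mathlib.AlgebraicGeometry.Morphisms.FlatMono
import Mathlib.AlgebraicGeometry.Morphisms.UniversallyInjective
import Mathlib.AlgebraicGeometry.Morphisms.IsIso

/-!
Morphisms of etale schemes are determined by, and can be reconstructed from, their maps of complex
points.
-/

set_option autoImplicit false

noncomputable section

open AlgebraicGeometry CategoryTheory CategoryTheory.Limits TopologicalSpace Topology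

namespace Groth.Agent.An92

open An An.Pts

variable {X Y Z : Scheme.{0}} [X.Over SC] [Y.Over SC] [Z.Over SC] [LocallyOfFiniteType (X ↘ SC)]
  [LocallyOfFiniteType (Y ↘ SC)] [LocallyOfFiniteType (Z ↘ SC)]

omit [Y.Over SC] [Z.Over SC] [LocallyOfFiniteType (Y ↘ SC)] [LocallyOfFiniteType (Z ↘ SC)] in
theorem eq_univ_of_forall_pt_mem {O : Set X} (hO : IsOpen O) (h : ∀ x : Pts X, x.pt ∈ O) :
    O = Set.univ := by
  by_contra hne
  obtain ⟨x, hx⟩ := exists_pt_mem hO.isClosed_compl.isLocallyClosed (Set.nonempty_compl.2 hne)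
  exact hx (h x)

theorem eq_of_map_eq (π : Y ⟶ Z) [FormallyUnramified π] [LocallyOfFiniteType π] (f g : X ⟶ Y)
    [f.IsOver SC] [g.IsOver SC] (w : f ≫ π = g ≫ π) (h : Pts.map f = Pts.map g) : f = g := by
  obtain ⟨W, hW, hWmax, -⟩ := Groth.Agent.Unr55.exists_eqLocus π f g w
  have htop : (W : Set X) = Set.univ := eq_univ_of_forall_pt_mem W.2 fun x =>
    hWmax x.1 (congrArg Subtype.val (congrFun h x)) ⟨cpt, rfl⟩
  obtain rfl : W = ⊤ := Opens.coe_inj.1 (htop.trans Opens.coe_top.symm)
  have h2 := congrArg (X.topIso.inv ≫ ·) hW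
  simpa only [← Scheme.topIso_hom, Iso.inv_hom_id_assoc] using h2

theorem isIso_of_etale_of_bijective (e : X ⟶ Y) [e.IsOver SC] [Etale e]
    (h : Function.Bijective (Pts.map e)) : IsIso e := by
  let δ := pullback.diagonal e
  have : δ.IsOver SC := ⟨by
    show δ ≫ pullback.fst e e ≫ X ↘ SC = X ↘ SC
    rw [pullback.diagonal_fst_assoc]⟩
  have : LocallyOfFiniteType ((pullback e e) ↘ SC) :=
    inferInstanceAs (LocallyOfFiniteType (pullback.fst e e ≫ X ↘ SC))
  have : Surjective δ := by
    refine ⟨Set.range_eq_univ.1 (eq_univ_of_forall_pt_mem δ.isOpenEmbedding.isOpen_range fun z => ?_)⟩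
    have hfs : Pts.map (pullback.fst e e) z = Pts.map (pullback.snd e e) z :=
      h.1 (Pts.map_pullback_condition e e z)
    have hz : Pts.map δ (Pts.map (pullback.fst e e) z) = z := by
      refine Subtype.ext (pullback.hom_ext ?_ ?_)
      · simp only [Pts.map_val, Category.assoc, δ, pullback.diagonal_fst, Category.comp_id]
      · have := congrArg Subtype.val hfs
        simp only [Pts.map_val] at this
        simp only [Pts.map_val, Category.assoc, δ, pullback.diagonal_snd, Category.comp_id, this]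
    exact ⟨_, (Pts.pt_map δ _).symm.trans (congrArg Pts.pt hz)⟩
  have : IsIso δ := (isIso_iff_isOpenImmersion_and_surjective δ).2 ⟨inferInstance, inferInstance⟩
  have : Mono e := (pullback.isIso_diagonal_iff e).1 this
  have : IsOpenImmersion e := IsOpenImmersion.of_flat_of_mono e
  refine (isIso_iff_isOpenImmersion_and_surjective e).2 ⟨inferInstance, ⟨Set.range_eq_univ.1 ?_⟩⟩
  refine eq_univ_of_forall_pt_mem e.isOpenEmbedding.isOpen_range fun y => ?_
  obtain ⟨x, rfl⟩ := h.2 y
  exact ⟨x.pt, (Pts.pt_map e x).symm⟩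

/-- A continuous map of complex points over `Z` between etale `Z`-schemes, the target separated over
`Z`, comes from a morphism. -/
theorem exists_map_eq_of_continuous [Fact EtaleLH] (a : X ⟶ Z) (b : Y ⟶ Z) [a.IsOver SC] [b.IsOver SC]
    [Etale a] [Etale b] [IsSeparated b] (h : Pts X → Pts Y) (hc : Continuous h)
    (hab : ∀ x, Pts.map b (h x) = Pts.map a x) :
    ∃ g : X ⟶ Y, ∃ _ : g.IsOver SC, g ≫ b = a ∧ Pts.map g = h := by
  have : (pullback.fst a b).IsOver SC := ⟨rfl⟩
  have : (pullback.snd a b).IsOver SC := ⟨by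
    show pullback.snd a b ≫ Y ↘ SC = pullback.fst a b ≫ X ↘ SC
    rw [← comp_over b SC, ← comp_over a SC, ← Category.assoc, ← Category.assoc, pullback.condition]⟩
  have : LocallyOfFiniteType ((pullback a b) ↘ SC) :=
    inferInstanceAs (LocallyOfFiniteType (pullback.fst a b ≫ X ↘ SC))
  let p := pullback.fst a b
  let q := pullback.snd a b
  have heq : Pts.map b ∘ (h ∘ Pts.map p) = Pts.map b ∘ Pts.map q := funext fun z => by
    show Pts.map b (h (Pts.map p z)) = Pts.map b (Pts.map q z)
    rw [hab]
    exact Pts.map_pullback_condition a b z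
  obtain ⟨S, hS, hSΓ⟩ := exists_isClopen_preimage_pt (X := pullback a b)
    (C := {z | h (Pts.map p z) = Pts.map q z})
    ⟨((isSeparated_iff b).1 ‹_›).isClosed_eqLocus (hc.comp (Pts.continuous_map _)) (Pts.continuous_map _) heq,
      ((Fact.out : EtaleLH) Y Z b).isLocallyInjective.isOpen_eqLocus (hc.comp (Pts.continuous_map _))
        (Pts.continuous_map _) heq⟩
  let O : (pullback a b).Opens := ⟨S, hS.2⟩
  have hO : ∀ z : Pts (O : Scheme.{0}),
      h (Pts.map p (Pts.map O.ι z)) = Pts.map q (Pts.map O.ι z) := fun z =>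
    hSΓ.le (show (Pts.map O.ι z).pt ∈ S by rw [Pts.pt_map]; exact z.pt.2)
  let e := O.ι ≫ p
  have : e.IsOver SC := ⟨rfl⟩
  have hmap : ∀ z, Pts.map e z = Pts.map p (Pts.map O.ι z) := fun z =>
    Subtype.ext (by simp only [Pts.map_val, e, Category.assoc])
  have hbij : Function.Bijective (Pts.map e) := by
    constructor
    · intro z z' hzz
      rw [hmap, hmap] at hzz
      refine map_injective_of_isImmersion O.ι (Subtype.ext (pullback.hom_ext ?_ ?_))
      · simpa only [Pts.map_val, p] using congrArg Subtype.val hzz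
      · have := congrArg h hzz
        rw [hO, hO] at this
        simpa only [Pts.map_val, q] using congrArg Subtype.val this
    · intro x
      have hcond : x.1 ≫ a = (h x).1 ≫ b := (congrArg Subtype.val (hab x)).symm
      let w : Pts (pullback a b) := ⟨pullback.lift x.1 (h x).1 hcond, by
        show pullback.lift x.1 (h x).1 hcond ≫ pullback.fst a b ≫ X ↘ SC = 𝟙 SC
        rw [pullback.lift_fst_assoc]; exact x.2⟩
      have hwp : Pts.map p w = x := Subtype.ext (by simp only [Pts.map_val, p, w, pullback.lift_fst])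
      have hwq : Pts.map q w = h x := Subtype.ext (by simp only [Pts.map_val, q, w, pullback.lift_snd])
      have hwS : w.pt ∈ O := hSΓ.ge (show h (Pts.map p w) = Pts.map q w by rw [hwp, hwq])
      obtain ⟨z, hz⟩ := (range_map_opensι O).ge hwS
      exact ⟨z, by rw [hmap, hz, hwp]⟩
  have := isIso_of_etale_of_bijective e hbij
  let g := inv e ≫ O.ι ≫ q
  have hgb : g ≫ b = a := by
    simp only [g, q, Category.assoc]
    rw [IsIso.inv_comp_eq, ← pullback.condition]
    simp only [e, p, Category.assoc]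
  have hg : g.IsOver SC := ⟨by
    rw [← comp_over b SC, ← Category.assoc, hgb, comp_over a SC]⟩
  refine ⟨g, hg, hgb, funext fun x => ?_⟩
  obtain ⟨z, rfl⟩ := hbij.2 x
  rw [hmap, hO]
  refine Subtype.ext ?_
  simp only [Pts.map_val, g, Category.assoc]
  rw [show O.ι ≫ p ≫ inv e ≫ O.ι ≫ q = e ≫ inv e ≫ O.ι ≫ q from (Category.assoc _ _ _).symm,
    IsIso.hom_inv_id_assoc]

end Groth.Agent.An92
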