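import Groth.Prelude.Def_AnEps
import Mathlib.CategoryTheory.Sites.DenseSubsite.SheafEquiv
import Mathlib.CategoryTheory.Sites.CoverPreserving
import Mathlib.CategoryTheory.Functor.Flat

/-!
The opens of a space as a dense subsite of its classical site.
-/

set_option autoImplicit false

universe u

noncomputable section

open CategoryTheory TopologicalSpace Topology Opposite

namespace Groth.Agent.An92

open An

variable {T : Type u} [TopologicalSpace T]

theorem isCoverDense_opensToCl : (opensToCl T).IsCoverDense (Cl.topology T) := ⟨fun A a => by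
  obtain ⟨W, haW, hemb⟩ := isLocalHomeomorph_iff_isOpenEmbedding_restrict.1 A.lh a
  obtain ⟨O, hOW, hO, haO⟩ := mem_nhds_iff.1 haW
  have hemb' : IsOpenEmbedding (O.restrict A.p) :=
    hemb.comp (g := Set.restrict W A.p) (f := Set.inclusion hOW) ⟨IsEmbedding.inclusion hOW, by
      rw [Set.range_inclusion]; exact hO.preimage continuous_subtype_val⟩
  let V : Opens T := ⟨Set.range (O.restrict A.p), hemb'.isOpen_range⟩
  let e := hemb'.isEmbedding.toHomeomorph
  let g : (opensToCl T).obj V ⟶ A :=
    ⟨fun w => (e.symm w).1, continuous_subtype_val.comp e.symm.continuous, fun w => by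
      have := congrArg Subtype.val (e.apply_symm_apply w)
      rw [IsEmbedding.toHomeomorph_apply_coe] at this
      exact this⟩
  refine ⟨_, g, Presieve.in_coverByImage _ g, hO.isOpenEmbedding_subtypeVal.comp e.symm.isOpenEmbedding,
    e ⟨a, haO⟩, ?_⟩
  show (e.symm (e ⟨a, haO⟩)).1 = a
  rw [e.symm_apply_apply]⟩

theorem isDenseSubsite_opensToCl :
    (opensToCl T).IsDenseSubsite (Opens.grothendieckTopology T) (Cl.topology T) := by
  have : (opensToCl T).Full := ⟨fun {U V} f =>
    ⟨homOfLE (fun x hx => by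
        have h2 : (f.toFun ⟨x, hx⟩).1 = x := f.over ⟨x, hx⟩
        exact h2 ▸ (f.toFun ⟨x, hx⟩).2),
      Cl.hom_ext (funext fun a => Subtype.ext (f.over a).symm)⟩⟩
  have : (opensToCl T).Faithful := ⟨fun {U V} f g _ => Subsingleton.elim f g⟩
  refine { isCoverDense' := isCoverDense_opensToCl, functorPushforward_mem_iff := fun {U S} => ⟨?_, ?_⟩ }
  · intro h x hx
    obtain ⟨B, g, ⟨V, f, k, hf, rfl⟩, -, b, hb⟩ := h ⟨x, hx⟩
    refine ⟨V, f, hf, ?_⟩
    have h2 : (k.toFun b).1 = x := congrArg Subtype.val hb
    exact h2 ▸ (k.toFun b).2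
  · intro h a
    obtain ⟨V, f, hf, haV⟩ := h a.1 a.2
    refine ⟨(opensToCl T).obj V, (opensToCl T).map f, ⟨V, f, 𝟙 _, hf, (Category.id_comp _).symm⟩,
      ⟨IsEmbedding.inclusion f.le, ?_⟩, ⟨a.1, haV⟩, rfl⟩
    show IsOpen (Set.range (Set.inclusion f.le))
    rw [Set.range_inclusion]
    exact V.2.preimage continuous_subtype_val

theorem opCont : OpCont T :=
  haveI := isDenseSubsite_opensToCl (T := T)
  inferInstance

theorem resOpens_isEquivalence [OpCont T] : (resOpens T).IsEquivalence := by
  have := isDenseSubsite_opensToCl (T := T)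
  infer_instance

end Groth.Agent.An92
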